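import Mathlib
import Cfsg.Agent.Lib.Helper32.PL1Frat
import Cfsg.Agent.Lib.Helper11.PSolvStable
import Cfsg.Agent.Lib.Helper63.PLength
import Cfsg.Agent.Lib.Helper63.HallHigman
import Cfsg.Agent.Lib.Helper63.FrattiniAction

set_option autoImplicit false

namespace Cfsg.Agent.Lib.Helper22.PL1

open scoped commutatorElement
open Cfsg

/-- For `p ≥ 5`, a `p`-solvable group with `O_{p'} = 1` whose Sylow `p`-subgroups have class at
most two has a normal Sylow `p`-subgroup. -/
theorem sylow_le_pCore_of_class_two {G : Type*} [Group G] [Finite G] {p : ℕ} [Fact p.Prime]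
    (hp5 : 5 ≤ p) (hsol : IsPSolvable p G) (h0 : pPrimeCore p G = ⊥) (Q : Sylow p G)
    (hcl : ∀ x ∈ (Q : Subgroup G), ∀ y ∈ (Q : Subgroup G), ∀ w ∈ (Q : Subgroup G),
      ⁅x, y⁆ * w = w * ⁅x, y⁆) :
    (Q : Subgroup G) ≤ pCore p G := by
  classical
  have hp : p.Prime := Fact.out
  have hl : ∃ k, PLengthLE p k G := Cfsg.Agent.Lib.Helper63.exists_plengthLE_of_isPSolvable hsol
  set R := pCore p G with hR
  have hRn : R.Normal := inferInstance
  have hRp : IsPGroup p R := Cfsg.Agent.Lib.Helper63.pCore_isPGroup' p G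
  have hRQ : R ≤ (Q : Subgroup G) := Cfsg.Agent.Lib.Helper63.pCore_le_sylow' p Q
  letI cg : CommGroup (↥R ⧸ frattini ↥R) := Cfsg.Agent.Lib.Helper32.fratCommGroup hRp
  let act : G →* MulAut (↥R ⧸ frattini ↥R) :=
    (Cfsg.Agent.Lib.Helper50.fr_autQuot (frattini ↥R)).comp (MulAut.conjNormal (H := R))
  have hact : ∀ (g : G) (r : ↥R), act g (QuotientGroup.mk r) =
      QuotientGroup.mk (MulAut.conjNormal g r) := fun _ _ => rfl
  have hone : ∀ g : G, act g = 1 → g ∈ R := by
    intro g hg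
    have h1 := (Cfsg.Agent.Lib.Helper50.fr_mem_ker_iff R g).1 hg
    exact Cfsg.Agent.Lib.Helper63.mem_pCore_of_trivial_on_frattini h0 hl g h1
  intro x hx
  have ha : ∀ v : ↥R ⧸ frattini ↥R, act x (act x v / v) = act x v / v := by
    intro v
    induction v using QuotientGroup.induction_on with
    | H r =>
      rw [hact, ← QuotientGroup.mk_div, hact]
      congr 1
      apply Subtype.ext
      rw [MulAut.conjNormal_apply]
      have h1 : ((MulAut.conjNormal x r / r : ↥R) : G) = ⁅x, (r : G)⁆ := by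
        rw [Subgroup.coe_div, MulAut.conjNormal_apply, commutatorElement_def, div_eq_mul_inv]
      rw [h1, ← hcl x hx r (hRQ r.2) x hx, mul_inv_cancel_right]
  obtain ⟨D, hDn, -, hDp, hxD⟩ := Cfsg.Agent.Lib.Helper11.quad_stable_ns (by omega)
    (Cfsg.Agent.Lib.Helper32.frat_pow hRp) act
    (Cfsg.Agent.Lib.Helper11.noSL2_of_isPSolvable hp5 hsol) x ha
  have hDpg : IsPGroup p D := by
    intro d
    obtain ⟨k, hk⟩ := hDp d.1 d.2
    rw [← map_pow] at hk
    have h1 := hone _ hk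
    obtain ⟨m, hm⟩ := hRp ⟨_, h1⟩
    refine ⟨k + m, Subtype.ext ?_⟩
    have h2 := congrArg Subtype.val hm
    rw [Subgroup.coe_pow] at h2
    rw [Subgroup.coe_pow, pow_add, pow_mul]
    exact h2
  exact (Cfsg.Agent.Lib.Helper63.le_pCore' hDn hDpg) hxD

end Cfsg.Agent.Lib.Helper22.PL1
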