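import Mathlib
import Cfsg.Agent.Lib.Helper97.MillerMoreno
import Cfsg.Agent.Lib.Helper63.PLength

set_option autoImplicit false

namespace Cfsg.Agent.Lib.Helper22.PL1

open Cfsg

/-- The elements acting trivially on `L / M` (both normal). -/
def stabSub {G : Type*} [Group G] (L M : Subgroup G) [hL : L.Normal] [hM : M.Normal] :
    Subgroup G where
  carrier := {g | ∀ l ∈ L, g * l * g⁻¹ * l⁻¹ ∈ M}
  mul_mem' := by
    intro g h hg hh l hl
    have h1 : g * h * l * (g * h)⁻¹ * l⁻¹ =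
        (g * (h * l * h⁻¹ * l⁻¹) * g⁻¹) * (g * l * g⁻¹ * l⁻¹) := by group
    rw [h1]
    exact M.mul_mem (hM.conj_mem _ (hh l hl) g) (hg l hl)
  one_mem' := by
    intro l _
    have h1 : (1 : G) * l * 1⁻¹ * l⁻¹ = 1 := by group
    rw [h1]
    exact M.one_mem
  inv_mem' := by
    intro g hg l hl
    have hl' : g⁻¹ * l * g ∈ L := by
      have := hL.conj_mem l hl g⁻¹
      rwa [inv_inv] at this
    have h1 := hg _ hl'
    have h2 : g⁻¹ * l * g⁻¹⁻¹ * l⁻¹ = (g * (g⁻¹ * l * g) * g⁻¹ * (g⁻¹ * l * g)⁻¹)⁻¹ := by group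
    rw [h2]
    exact M.inv_mem h1

theorem mem_stabSub {G : Type*} [Group G] {L M : Subgroup G} [hL : L.Normal] [hM : M.Normal]
    {g : G} : g ∈ stabSub L M ↔ ∀ l ∈ L, g * l * g⁻¹ * l⁻¹ ∈ M := Iff.rfl

instance stabSub_normal {G : Type*} [Group G] (L M : Subgroup G) [hL : L.Normal]
    [hM : M.Normal] : (stabSub L M).Normal := by
  refine ⟨fun g hg h => ?_⟩
  intro l hl
  have hl' : h⁻¹ * l * h ∈ L := by
    have := hL.conj_mem l hl h⁻¹
    rwa [inv_inv] at this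
  have h1 := hg _ hl'
  have h2 : h * g * h⁻¹ * l * (h * g * h⁻¹)⁻¹ * l⁻¹ =
      h * (g * (h⁻¹ * l * h) * g⁻¹ * (h⁻¹ * l * h)⁻¹) * h⁻¹ := by group
  rw [h2]
  exact hM.conj_mem _ h1 h

/-- Coprime stability: if `g` of order prime to `p` centralizes `u = [g, l]`, a `p`-element, then
`g` centralizes `l`. -/
theorem stab_comm {G : Type*} [Group G] {p : ℕ} [Fact p.Prime] (g l : G)
    (hu : g * (g * l * g⁻¹ * l⁻¹) = (g * l * g⁻¹ * l⁻¹) * g)
    (hup : ∃ k : ℕ, (g * l * g⁻¹ * l⁻¹) ^ p ^ k = 1) (hcop : Nat.Coprime (orderOf g) p) :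
    g * l = l * g := by
  obtain ⟨u, hudef⟩ : ∃ u : G, u = g * l * g⁻¹ * l⁻¹ := ⟨_, rfl⟩
  rw [← hudef] at hu hup
  have hgl : g * l * g⁻¹ = u * l := by rw [hudef]; group
  have hpow : ∀ n : ℕ, g ^ n * l * (g ^ n)⁻¹ = u ^ n * l := by
    intro n
    induction n with
    | zero => simp
    | succ n ih =>
      have hgun : g * u ^ n = u ^ n * g := (Commute.pow_right (show Commute g u from hu) n).eq
      have h3 : g ^ (n + 1) * l * (g ^ (n + 1))⁻¹ = g * (g ^ n * l * (g ^ n)⁻¹) * g⁻¹ := by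
        rw [pow_succ']
        group
      have h4 : g * (u ^ n * l) * g⁻¹ = (g * u ^ n * g⁻¹) * (g * l * g⁻¹) := by group
      rw [h3, ih, h4, hgun, mul_inv_cancel_right, hgl, pow_succ, mul_assoc]
  have h5 := hpow (orderOf g)
  rw [pow_orderOf_eq_one, one_mul, inv_one, mul_one] at h5
  have h6 : u ^ orderOf g = 1 := by
    have : u ^ orderOf g * l = 1 * l := by rw [← h5, one_mul]
    exact mul_right_cancel this
  obtain ⟨k, hk⟩ := hup
  have h7 := pow_gcd_eq_one.2 ⟨h6, hk⟩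
  rw [Nat.Coprime.gcd_eq_one (Nat.Coprime.pow_right k hcop), pow_one] at h7
  rw [h7, one_mul] at hgl
  calc g * l = g * l * g⁻¹ * g := by group
    _ = l * g := by rw [hgl]

/-- An element stabilizing the chain `1 ≤ Z ≤ Ω₁(Z(V)) ≤ Z(V) ≤ V`, `V = O_p(G)`, lies in `V`
when `C_G(V) ≤ V`. -/
theorem chain_le_pCore {G : Type*} [Group G] [Finite G] {p : ℕ} [Fact p.Prime]
    (hC : Subgroup.centralizer (pCore p G : Set G) ≤ pCore p G)
    (Z : Subgroup G) [hZn : Z.Normal]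
    (hZ : ∀ z ∈ Z, z ∈ pCore p G ∧ (∀ v ∈ pCore p G, z * v = v * z) ∧ z ^ p = 1)
    (g : G)
    (h1 : ∀ z ∈ Z, g * z = z * g)
    (h2 : ∀ a ∈ pCore p G, (∀ v ∈ pCore p G, a * v = v * a) → a ^ p = 1 →
      g * a * g⁻¹ * a⁻¹ ∈ Z)
    (h3 : ∀ v ∈ pCore p G, ∀ w ∈ pCore p G,
      (g * v * g⁻¹ * v⁻¹) * w = w * (g * v * g⁻¹ * v⁻¹)) :
    g ∈ pCore p G := by
  classical
  have hp : p.Prime := Fact.out
  set V := pCore p G with hV
  haveI hVn : V.Normal := inferInstance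
  have hVp : IsPGroup p V := Cfsg.Agent.Lib.Helper63.pCore_isPGroup' p G
  set Y : Subgroup G := V ⊓ Subgroup.centralizer (V : Set G) with hY
  haveI hYn : Y.Normal := inferInstance
  have hYmem : ∀ a : G, a ∈ Y ↔ a ∈ V ∧ ∀ v ∈ V, a * v = v * a := by
    intro a
    rw [hY, Subgroup.mem_inf, Subgroup.mem_centralizer_iff]
    constructor
    · rintro ⟨ha, hc⟩
      exact ⟨ha, fun v hv => (hc v hv).symm⟩
    · rintro ⟨ha, hc⟩
      exact ⟨ha, fun v hv => (hc v hv).symm⟩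
  have hYc : ∀ a ∈ Y, ∀ b ∈ Y, a * b = b * a := by
    intro a ha b hb
    exact ((hYmem a).1 ha).2 b ((hYmem b).1 hb).1
  set A : Subgroup G := Cfsg.Agent.Lib.Helper97.omegaSub Y hYc p with hA
  haveI hAn : A.Normal := Cfsg.Agent.Lib.Helper97.omegaSub_normal hYc p
  have hAmem : ∀ a : G, a ∈ A ↔ a ∈ Y ∧ a ^ p = 1 := fun a => Iff.rfl
  have hVpow : ∀ v ∈ V, ∃ k : ℕ, v ^ p ^ k = 1 := by
    intro v hv
    obtain ⟨k, hk⟩ := hVp ⟨v, hv⟩
    exact ⟨k, congrArg Subtype.val hk⟩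
  set N : Subgroup G := (stabSub Z ⊥ ⊓ stabSub A Z) ⊓ stabSub V Y with hN
  haveI hNn : N.Normal := inferInstance
  have hgN : g ∈ N := by
    refine ⟨⟨?_, ?_⟩, ?_⟩
    · intro z hz
      rw [Subgroup.mem_bot, h1 z hz]
      group
    · intro a ha
      obtain ⟨haY, hap⟩ := (hAmem a).1 ha
      obtain ⟨haV, hac⟩ := (hYmem a).1 haY
      exact h2 a haV hac hap
    · intro v hv
      rw [hYmem]
      refine ⟨?_, h3 v hv⟩
      exact V.mul_mem (hVn.conj_mem v hv g) (V.inv_mem hv)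
  have hNp : IsPGroup p N := by
    intro n
    obtain ⟨j, m, hm, hjm⟩ := Nat.exists_eq_pow_mul_and_not_dvd (orderOf_pos (n : G)).ne' p
      hp.ne_one
    obtain ⟨n', hn'⟩ : ∃ n' : G, n' = (n : G) ^ p ^ j := ⟨_, rfl⟩
    have hn'N : n' ∈ N := by rw [hn']; exact N.pow_mem n.2 _
    have hn'm : n' ^ m = 1 := by
      rw [hn', ← pow_mul, ← hjm, pow_orderOf_eq_one]
    have hcop : Nat.Coprime (orderOf n') p := by
      have h4 : orderOf n' ∣ m := orderOf_dvd_of_pow_eq_one hn'm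
      exact Nat.Coprime.coprime_dvd_left h4 ((Nat.Prime.coprime_iff_not_dvd hp).2 hm).symm
    obtain ⟨⟨hsZ, hsA⟩, hsV⟩ := hn'N
    have hcZ : ∀ z ∈ Z, n' * z = z * n' := by
      intro z hz
      have h4 := hsZ z hz
      rw [Subgroup.mem_bot] at h4
      calc n' * z = (n' * z * n'⁻¹ * z⁻¹) * z * n' := by group
        _ = z * n' := by rw [h4, one_mul]
    have hcA : ∀ a ∈ A, n' * a = a * n' := by
      intro a ha
      have h4 := hsA a ha
      obtain ⟨h5, -, -⟩ := hZ _ h4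
      exact stab_comm n' a (hcZ _ h4) (hVpow _ h5) hcop
    have hcY : ∀ y ∈ Y, n' * y = y * n' := by
      intro y hy
      obtain ⟨k, hk⟩ := hVpow y ((hYmem y).1 hy).1
      exact Cfsg.Agent.Lib.Helper97.comm_of_comm_omega hYc hcop hcA k y hy hk
    have hcV : ∀ v ∈ V, n' * v = v * n' := by
      intro v hv
      have h4 := hsV v hv
      exact stab_comm n' v (hcY _ h4) (hVpow _ ((hYmem _).1 h4).1) hcop
    have hn'V : n' ∈ V := by
      apply hC
      rw [Subgroup.mem_centralizer_iff]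
      intro v hv
      exact (hcV v hv).symm
    obtain ⟨k, hk⟩ := hVpow n' hn'V
    have h7 := pow_gcd_eq_one.2 ⟨hn'm, hk⟩
    have h8 : Nat.gcd m (p ^ k) = 1 :=
      Nat.Coprime.pow_right k ((Nat.Prime.coprime_iff_not_dvd hp).2 hm).symm
    rw [h8, pow_one] at h7
    refine ⟨j, Subtype.ext ?_⟩
    rw [Subgroup.coe_pow, ← hn', h7]
    rfl
  exact (Cfsg.Agent.Lib.Helper63.le_pCore' hNn hNp) hgN

end Cfsg.Agent.Lib.Helper22.PL1
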