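import Mathlib

set_option autoImplicit false

namespace Cfsg.Agent.Lib.Helper22.PL1

open scoped commutatorElement

/-- The abstract properties of the normal Sylow subgroup of a minimal non-nilpotent group that
are used in the `p`-length argument. -/
structure SL (p : ℕ) (P : Type*) [Group P] : Prop where
  cl2 : ∀ x y w : P, ⁅x, y⁆ * w = w * ⁅x, y⁆
  powp : ∀ x w : P, x ^ p * w = w * x ^ p
  se : ∀ x : P, (∃ w, x * w ≠ w * x) → ∀ z : P, (∀ w, z * w = w * z) → ∃ y : P, ⁅x, y⁆ = z
  aut : (∃ x y : P, x * y ≠ y * x) → ∃ (γ : P ≃* P) (q : ℕ), q.Prime ∧ q ≠ p ∧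
    (∀ x, γ^[q] x = x) ∧ (∀ z : P, (∀ w, z * w = w * z) → γ z = z) ∧
    ∀ B : Subgroup P, (∀ b ∈ B, γ b ∈ B) → (∀ b ∈ B, ∀ w, b * w = w * b) ∨ B = ⊤

theorem iter_mul_right {P : Type*} [Group P] (γ : P ≃* P) (x u : P) (hx : γ x = x * u)
    (hu : γ u = u) (n : ℕ) : γ^[n] x = x * u ^ n := by
  induction n with
  | zero => simp
  | succ n ih =>
    rw [Function.iterate_succ_apply', ih, map_mul, map_pow, hx, hu, mul_assoc, ← pow_succ']

theorem iter_mul_left {P : Type*} [Group P] (γ : P ≃* P) (x u : P) (hx : γ x = u * x)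
    (hu : γ u = u) (n : ℕ) : γ^[n] x = u ^ n * x := by
  induction n with
  | zero => simp
  | succ n ih =>
    rw [Function.iterate_succ_apply', ih, map_mul, map_pow, hx, hu, ← mul_assoc, ← pow_succ]

theorem eq_one_of_pow_prime {p q : ℕ} (hp : p.Prime) (hq : q.Prime) (hqp : q ≠ p)
    {P : Type*} [Group P] (hP : IsPGroup p P) (u : P) (hu : u ^ q = 1) : u = 1 := by
  obtain ⟨k, hk⟩ := hP u
  have h3 : u ^ (Nat.gcd q (p ^ k)) = 1 := pow_gcd_eq_one.2 ⟨hu, hk⟩
  have h4 : Nat.gcd q (p ^ k) = 1 := Nat.Coprime.pow_right k ((Nat.coprime_primes hq hp).2 hqp)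
  rwa [h4, pow_one] at h3

theorem fix_of_fix_right {p q : ℕ} (hp : p.Prime) (hq : q.Prime) (hqp : q ≠ p)
    {P : Type*} [Group P] (hP : IsPGroup p P) (γ : P ≃* P) (hγq : ∀ x, γ^[q] x = x) (x : P)
    (hu : γ (x⁻¹ * γ x) = x⁻¹ * γ x) : γ x = x := by
  have h1 := iter_mul_right γ x (x⁻¹ * γ x) (by group) hu q
  rw [hγq x] at h1
  have h2 : (x⁻¹ * γ x) ^ q = 1 := by
    have : x * (x⁻¹ * γ x) ^ q = x * 1 := by rw [← h1, mul_one]
    exact mul_left_cancel this
  have h3 := eq_one_of_pow_prime hp hq hqp hP _ h2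
  calc γ x = x * (x⁻¹ * γ x) := by group
    _ = x := by rw [h3, mul_one]

theorem fix_of_fix_left {p q : ℕ} (hp : p.Prime) (hq : q.Prime) (hqp : q ≠ p)
    {P : Type*} [Group P] (hP : IsPGroup p P) (γ : P ≃* P) (hγq : ∀ x, γ^[q] x = x) (x : P)
    (hu : γ (γ x * x⁻¹) = γ x * x⁻¹) : γ x = x := by
  have h1 := iter_mul_left γ x (γ x * x⁻¹) (by group) hu q
  rw [hγq x] at h1
  have h2 : (γ x * x⁻¹) ^ q = 1 := by
    have : (γ x * x⁻¹) ^ q * x = 1 * x := by rw [← h1, one_mul]
    exact mul_right_cancel this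
  have h3 := eq_one_of_pow_prime hp hq hqp hP _ h2
  calc γ x = (γ x * x⁻¹) * x := by group
    _ = x := by rw [h3, one_mul]

theorem comm_aux {P : Type*} [Group P] (z x g : P)
    (h : z * g * z⁻¹ * g⁻¹ = z * x * z⁻¹ * x⁻¹) : z * (x⁻¹ * g) = (x⁻¹ * g) * z := by
  have h1 : g * z⁻¹ * g⁻¹ = x * z⁻¹ * x⁻¹ := by
    have h' : z * (g * z⁻¹ * g⁻¹) = z * (x * z⁻¹ * x⁻¹) := by simpa only [mul_assoc] using h
    exact mul_left_cancel h'
  have h2 : x⁻¹ * g * z⁻¹ = z⁻¹ * (x⁻¹ * g) := by
    calc x⁻¹ * g * z⁻¹ = x⁻¹ * (g * z⁻¹ * g⁻¹) * g := by group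
      _ = x⁻¹ * (x * z⁻¹ * x⁻¹) * g := by rw [h1]
      _ = z⁻¹ * (x⁻¹ * g) := by group
  calc z * (x⁻¹ * g) = z * (x⁻¹ * g * z⁻¹) * z := by group
    _ = z * (z⁻¹ * (x⁻¹ * g)) * z := by rw [h2]
    _ = x⁻¹ * g * z := by group

/-- A `p`-group with an automorphism of prime order `q ≠ p` all of whose proper invariant
subgroups are fixed pointwise has the properties `SL`. -/
theorem sl_of_aut {p q : ℕ} (hp : p.Prime) (hq : q.Prime) (hqp : q ≠ p) {P : Type*} [Group P]
    [Finite P] (hP : IsPGroup p P) (γ : P ≃* P) (hγq : ∀ x, γ^[q] x = x) (hγ1 : ∃ x, γ x ≠ x)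
    (hA3 : ∀ B : Subgroup P, (∀ b ∈ B, γ b ∈ B) → B ≠ ⊤ → ∀ b ∈ B, γ b = b) : SL p P := by
  classical
  haveI : Fact p.Prime := ⟨hp⟩
  -- commutators are fixed
  have hcomm : ∀ x y : P, γ ⁅x, y⁆ = ⁅x, y⁆ := by
    have hne : commutator P ≠ ⊤ := by
      haveI : Nontrivial P := by
        obtain ⟨x, hx⟩ := hγ1
        refine ⟨⟨x, 1, ?_⟩⟩
        intro h
        apply hx
        rw [h, map_one]
      haveI : Group.IsNilpotent P := hP.isNilpotent
      exact (Group.IsSolvable.commutator_lt_top_of_nontrivial P).ne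
    have hinv : ∀ b ∈ commutator P, γ b ∈ commutator P := by
      intro b hb
      have h1 : (commutator P).map γ.toMonoidHom ≤ commutator P := by
        rw [commutator_def, Subgroup.map_commutator,
          Subgroup.map_top_of_surjective _ γ.surjective]
      exact h1 ⟨b, hb, rfl⟩
    intro x y
    apply hA3 _ hinv hne
    rw [commutator_def]
    exact Subgroup.commutator_mem_commutator (Subgroup.mem_top _) (Subgroup.mem_top _)
  -- fixed elements are central
  have hfix_central : ∀ z : P, γ z = z → ∀ w, z * w = w * z := by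
    intro z hz
    by_contra hcon
    push Not at hcon
    have hne : Subgroup.centralizer ({z} : Set P) ≠ ⊤ := by
      intro h
      obtain ⟨w, hw⟩ := hcon
      have h1 : w ∈ Subgroup.centralizer ({z} : Set P) := h ▸ Subgroup.mem_top w
      rw [Subgroup.mem_centralizer_iff] at h1
      exact hw (h1 z rfl)
    have hinv : ∀ b ∈ Subgroup.centralizer ({z} : Set P),
        γ b ∈ Subgroup.centralizer ({z} : Set P) := by
      intro b hb
      rw [Subgroup.mem_centralizer_iff] at hb ⊢
      intro h hh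
      rw [Set.mem_singleton_iff] at hh
      subst hh
      have h1 := hb h rfl
      have h2 := congrArg γ h1
      rw [map_mul, map_mul, hz] at h2
      exact h2
    have hall := hA3 _ hinv hne
    obtain ⟨x, hx⟩ := hγ1
    apply hx
    apply fix_of_fix_right hp hq hqp hP γ hγq x
    apply hall
    rw [Subgroup.mem_centralizer_iff]
    intro h hh
    rw [Set.mem_singleton_iff] at hh
    subst hh
    have h1 := hcomm h x
    rw [map_commutatorElement, hz, commutatorElement_def, commutatorElement_def] at h1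
    exact comm_aux h x (γ x) h1
  have hcl2 : ∀ x y w : P, ⁅x, y⁆ * w = w * ⁅x, y⁆ := fun x y w =>
    hfix_central _ (hcomm x y) w
  -- central elements are mapped to central elements
  have hγc : ∀ z : P, (∀ w, z * w = w * z) → ∀ w, γ z * w = w * γ z := by
    intro z hz w
    have h1 := hz (γ.symm w)
    have h2 := congrArg γ h1
    rw [map_mul, map_mul, MulEquiv.apply_symm_apply] at h2
    exact h2
  have hcentral_fix : (∃ x y : P, x * y ≠ y * x) → ∀ z : P, (∀ w, z * w = w * z) → γ z = z := by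
    intro hna z hz
    have hne : Subgroup.center P ≠ ⊤ := by
      intro h
      obtain ⟨x, y, hxy⟩ := hna
      have h1 : x ∈ Subgroup.center P := h ▸ Subgroup.mem_top x
      exact hxy ((Subgroup.mem_center_iff.1 h1 y).symm)
    have hinv : ∀ b ∈ Subgroup.center P, γ b ∈ Subgroup.center P := by
      intro b hb
      rw [Subgroup.mem_center_iff] at hb ⊢
      intro g
      exact (hγc b (fun w => (hb w).symm) g).symm
    exact hA3 _ hinv hne z (Subgroup.mem_center_iff.2 (fun g => (hz g).symm))
  -- commutation in the central quotient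
  have hcq : ∀ x y : P, Commute (QuotientGroup.mk x : P ⧸ Subgroup.center P)
      (QuotientGroup.mk y) := by
    intro x y
    show (QuotientGroup.mk x : P ⧸ Subgroup.center P) * QuotientGroup.mk y =
      QuotientGroup.mk y * QuotientGroup.mk x
    rw [← QuotientGroup.mk_mul, ← QuotientGroup.mk_mul, QuotientGroup.eq]
    have h1 : (x * y)⁻¹ * (y * x) = ⁅y⁻¹, x⁻¹⁆ := by rw [commutatorElement_def]; group
    rw [h1, Subgroup.mem_center_iff]
    intro g
    exact (hcl2 _ _ g).symm
  have hpowp : ∀ x w : P, x ^ p * w = w * x ^ p := by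
    let B : Subgroup P :=
      { carrier := {x | (QuotientGroup.mk x : P ⧸ Subgroup.center P) ^ p = 1}
        mul_mem' := by
          intro a b ha hb
          show (QuotientGroup.mk (a * b) : P ⧸ Subgroup.center P) ^ p = 1
          rw [QuotientGroup.mk_mul, (hcq a b).mul_pow, ha, hb, one_mul]
        one_mem' := by
          show (QuotientGroup.mk (1 : P) : P ⧸ Subgroup.center P) ^ p = 1
          rw [QuotientGroup.mk_one, one_pow]
        inv_mem' := by
          intro a ha
          show (QuotientGroup.mk a⁻¹ : P ⧸ Subgroup.center P) ^ p = 1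
          rw [QuotientGroup.mk_inv, inv_pow, ha, inv_one] }
    have hB : ∀ x : P, x ∈ B ↔ ∀ w, x ^ p * w = w * x ^ p := by
      intro x
      show (QuotientGroup.mk x : P ⧸ Subgroup.center P) ^ p = 1 ↔ _
      rw [← QuotientGroup.mk_pow, QuotientGroup.eq_one_iff, Subgroup.mem_center_iff]
      constructor
      · intro h w; exact (h w).symm
      · intro h w; exact (h w).symm
    have hinv : ∀ b ∈ B, γ b ∈ B := by
      intro b hb
      rw [hB] at hb ⊢
      rw [← map_pow]
      exact hγc _ hb
    by_cases hBt : B = ⊤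
    · intro x
      exact (hB x).1 (hBt ▸ Subgroup.mem_top x)
    · have hall := hA3 B hinv hBt
      have hcen : ∀ k : ℕ, ∀ x : P, x ^ p ^ k = 1 → ∀ w, x * w = w * x := by
        intro k
        induction k with
        | zero =>
          intro x hx w
          rw [pow_zero, pow_one] at hx
          rw [hx, one_mul, mul_one]
        | succ k ih =>
          intro x hx
          have h1 : (x ^ p) ^ p ^ k = 1 := by rw [← pow_mul, ← pow_succ']; exact hx
          have h2 := ih (x ^ p) h1
          exact hfix_central x (hall x ((hB x).2 h2))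
      intro x w
      obtain ⟨k, hk⟩ := hP (x ^ p)
      exact hcen k (x ^ p) hk w
  refine ⟨hcl2, hpowp, ?_, ?_⟩
  · -- the property `se`
    intro x hx z hz
    have hna : ∃ x y : P, x * y ≠ y * x := by
      obtain ⟨w, hw⟩ := hx
      exact ⟨x, w, hw⟩
    have hbil : ∀ y₁ y₂ : P, ⁅x, y₁ * y₂⁆ = ⁅x, y₁⁆ * ⁅x, y₂⁆ := by
      intro y₁ y₂
      calc ⁅x, y₁ * y₂⁆ = ⁅x, y₁⁆ * (y₁ * ⁅x, y₂⁆ * y₁⁻¹) := by
            simp only [commutatorElement_def]; group
        _ = ⁅x, y₁⁆ * ⁅x, y₂⁆ := by rw [← hcl2 x y₂ y₁, mul_inv_cancel_right]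
    let N : Subgroup P :=
      { carrier := {n | ∃ y, ⁅x, y⁆ = n}
        mul_mem' := by
          rintro a b ⟨y₁, rfl⟩ ⟨y₂, rfl⟩
          exact ⟨y₁ * y₂, hbil y₁ y₂⟩
        one_mem' := ⟨1, by simp⟩
        inv_mem' := by
          rintro a ⟨y, rfl⟩
          refine ⟨y⁻¹, ?_⟩
          have h1 := hbil y y⁻¹
          rw [mul_inv_cancel] at h1
          have h2 : ⁅x, (1 : P)⁆ = 1 := by simp
          rw [h2] at h1
          exact (inv_eq_of_mul_eq_one_right h1.symm).symm }
    have hNmem : ∀ n : P, n ∈ N ↔ ∃ y, ⁅x, y⁆ = n := fun n => Iff.rfl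
    have hNc : ∀ n ∈ N, ∀ g : P, n * g = g * n := by
      rintro n ⟨y, rfl⟩ g
      exact hcl2 x y g
    have hNfix : ∀ n ∈ N, γ n = n := by
      rintro n ⟨y, rfl⟩
      exact hcomm x y
    -- all commutators lie in `N`
    have hallN : ∀ y w : P, ⁅y, w⁆ ∈ N := by
      let B : Subgroup P :=
        { carrier := {y | ∀ w, ⁅y, w⁆ ∈ N}
          mul_mem' := by
            intro a b ha hb w
            have h1 : ⁅a * b, w⁆ = (a * ⁅b, w⁆ * a⁻¹) * ⁅a, w⁆ := by
              simp only [commutatorElement_def]; group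
            rw [h1, ← hcl2 b w a, mul_inv_cancel_right]
            exact N.mul_mem (hb w) (ha w)
          one_mem' := by
            intro w
            have h2 : ⁅(1 : P), w⁆ = 1 := by simp
            rw [h2]
            exact N.one_mem
          inv_mem' := by
            intro a ha w
            have h1 : ⁅a⁻¹, w⁆ = a⁻¹ * ⁅w, a⁆ * a := by
              simp only [commutatorElement_def]; group
            rw [h1, ← hcl2 w a a⁻¹, inv_mul_cancel_right, ← commutatorElement_inv]
            exact N.inv_mem (ha w) }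
      have hinv : ∀ b ∈ B, γ b ∈ B := by
        intro b hb w
        have h1 : ⁅γ b, w⁆ = γ ⁅b, γ.symm w⁆ := by
          rw [map_commutatorElement, MulEquiv.apply_symm_apply]
        rw [h1, hcomm]
        exact hb _
      have hxB : x ∈ B := fun w => ⟨w, rfl⟩
      have hBt : B = ⊤ := by
        by_contra hne
        have h1 := hA3 B hinv hne x hxB
        obtain ⟨w, hw⟩ := hx
        exact hw (hfix_central x h1 w)
      intro y w
      have hy : y ∈ B := hBt ▸ Subgroup.mem_top y
      exact hy w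
    haveI hNn : N.Normal := by
      refine ⟨fun n hn g => ?_⟩
      rw [← hNc n hn g, mul_inv_cancel_right]
      exact hn
    have hab : ∀ a b : P ⧸ N, a * b = b * a := by
      intro a b
      induction a using QuotientGroup.induction_on with
      | H a =>
        induction b using QuotientGroup.induction_on with
        | H b =>
          rw [← QuotientGroup.mk_mul, ← QuotientGroup.mk_mul, QuotientGroup.eq]
          have h1 : (a * b)⁻¹ * (b * a) = ⁅b⁻¹, a⁻¹⁆ := by rw [commutatorElement_def]; group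
          rw [h1]
          exact hallN _ _
    let γb : P ⧸ N →* P ⧸ N := QuotientGroup.map N N γ.toMonoidHom (by
      intro n hn
      show γ n ∈ N
      rw [hNfix n hn]
      exact hn)
    have hγb : ∀ y : P, γb (QuotientGroup.mk y) = QuotientGroup.mk (γ y) := fun y => rfl
    let δ : P ⧸ N →* P ⧸ N := MonoidHom.mk' (fun a => γb a * a⁻¹) (by
      intro a b
      show γb (a * b) * (a * b)⁻¹ = γb a * a⁻¹ * (γb b * b⁻¹)
      rw [map_mul, mul_inv_rev, mul_assoc, mul_assoc, ← mul_assoc (γb b), hab (γb b * b⁻¹) a⁻¹])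
    have hδ : ∀ a : P ⧸ N, δ a = γb a * a⁻¹ := fun a => rfl
    have hδsurj : Function.Surjective δ := by
      let B₃ : Subgroup P := δ.range.comap (QuotientGroup.mk' N)
      have hinv : ∀ b ∈ B₃, γ b ∈ B₃ := by
        rintro b ⟨a, ha⟩
        refine ⟨γb a, ?_⟩
        show δ (γb a) = QuotientGroup.mk (γ b)
        rw [← hγb b]
        have h2 : (QuotientGroup.mk b : P ⧸ N) = δ a := ha.symm
        rw [h2, hδ, hδ, map_mul, map_inv]
      have hδB : ∀ w : P, γ w * w⁻¹ ∈ B₃ := by
        intro w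
        refine ⟨QuotientGroup.mk w, ?_⟩
        show δ (QuotientGroup.mk w) = QuotientGroup.mk (γ w * w⁻¹)
        rw [hδ, hγb, QuotientGroup.mk_mul, QuotientGroup.mk_inv]
      have hBt : B₃ = ⊤ := by
        by_contra hne
        have hall := hA3 B₃ hinv hne
        obtain ⟨w, hw⟩ := hγ1
        apply hw
        exact fix_of_fix_left hp hq hqp hP γ hγq w (hall _ (hδB w))
      intro a
      induction a using QuotientGroup.induction_on with
      | H a =>
        have h1 : a ∈ B₃ := hBt ▸ Subgroup.mem_top a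
        obtain ⟨b, hb⟩ := h1
        exact ⟨b, hb⟩
    have hδinj : Function.Injective δ := Finite.injective_iff_surjective.2 hδsurj
    have hzfix : γ z = z := hcentral_fix hna z hz
    have h1 : δ (QuotientGroup.mk z) = δ 1 := by
      rw [hδ, hγb, hzfix, mul_inv_cancel, map_one]
    have h2 := hδinj h1
    have h3 : z ∈ N := (QuotientGroup.eq_one_iff z).1 h2
    exact h3
  · -- the automorphism
    intro hna
    refine ⟨γ, q, hq, hqp, hγq, hcentral_fix hna, ?_⟩
    intro B hB
    by_cases hBt : B = ⊤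
    · exact Or.inr hBt
    · left
      intro b hb
      exact hfix_central b (hA3 B hB hBt b hb)

/-- Transport of `SL` along an isomorphism. -/
theorem SL.of_equiv {p : ℕ} {P₁ P₂ : Type*} [Group P₁] [Group P₂] (e : P₁ ≃* P₂)
    (h : SL p P₂) : SL p P₁ := by
  have hcen : ∀ z : P₁, (∀ w, z * w = w * z) → ∀ w, e z * w = w * e z := by
    intro z hz w
    have h1 := hz (e.symm w)
    have h2 := congrArg e h1
    rw [map_mul, map_mul, MulEquiv.apply_symm_apply] at h2
    exact h2
  have hcen' : ∀ z : P₁, (∀ w, e z * w = w * e z) → ∀ w, z * w = w * z := by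
    intro z hz w
    apply e.injective
    rw [map_mul, map_mul]
    exact hz (e w)
  refine ⟨?_, ?_, ?_, ?_⟩
  · intro x y w
    apply e.injective
    rw [map_mul, map_mul, map_commutatorElement]
    exact h.cl2 _ _ _
  · intro x w
    apply e.injective
    rw [map_mul, map_mul, map_pow]
    exact h.powp _ _
  · rintro x ⟨w, hw⟩ z hz
    have hx : ∃ w, e x * w ≠ w * e x := by
      refine ⟨e w, fun hh => hw ?_⟩
      apply e.injective
      rw [map_mul, map_mul]
      exact hh
    obtain ⟨y, hy⟩ := h.se (e x) hx (e z) (hcen z hz)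
    refine ⟨e.symm y, ?_⟩
    apply e.injective
    rw [map_commutatorElement, MulEquiv.apply_symm_apply]
    exact hy
  · rintro ⟨x, y, hxy⟩
    have hna : ∃ x y : P₂, x * y ≠ y * x := by
      refine ⟨e x, e y, fun hh => hxy ?_⟩
      apply e.injective
      rw [map_mul, map_mul]
      exact hh
    obtain ⟨γ, q, hq, hqp, hγq, hγc, hγB⟩ := h.aut hna
    let γ₁ : P₁ ≃* P₁ := (e.trans γ).trans e.symm
    have hγ₁ : ∀ x : P₁, γ₁ x = e.symm (γ (e x)) := fun x => rfl
    have hiter : ∀ (n : ℕ) (x : P₁), γ₁^[n] x = e.symm (γ^[n] (e x)) := by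
      intro n
      induction n with
      | zero => intro x; simp
      | succ n ih =>
        intro x
        rw [Function.iterate_succ_apply', ih, hγ₁, MulEquiv.apply_symm_apply,
          Function.iterate_succ_apply']
    refine ⟨γ₁, q, hq, hqp, ?_, ?_, ?_⟩
    · intro x
      rw [hiter, hγq, MulEquiv.symm_apply_apply]
    · intro z hz
      rw [hγ₁, hγc (e z) (hcen z hz), MulEquiv.symm_apply_apply]
    · intro B hB
      have hB' : ∀ b ∈ B.map e.toMonoidHom, γ b ∈ B.map e.toMonoidHom := by
        rintro _ ⟨b, hb, rfl⟩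
        refine ⟨γ₁ b, hB b hb, ?_⟩
        show e (γ₁ b) = γ (e b)
        rw [hγ₁, MulEquiv.apply_symm_apply]
      rcases hγB _ hB' with h1 | h1
      · left
        intro b hb
        exact hcen' b (h1 (e b) ⟨b, hb, rfl⟩)
      · right
        rw [eq_top_iff]
        intro b _
        have h2 : e b ∈ B.map e.toMonoidHom := h1 ▸ Subgroup.mem_top _
        obtain ⟨b', hb', hbb⟩ := h2
        have h3 : b' = b := e.injective hbb
        rw [← h3]
        exact hb'

end Cfsg.Agent.Lib.Helper22.PL1
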