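import Mathlib
import Cfsg.Agent.Lib.Helper22.PL1.SchmidtAut

set_option autoImplicit false

namespace Cfsg.Agent.Lib.Helper22.PL1

open scoped commutatorElement

/-- No group of order `p ^ 3`, `p ∈ {2, 3}`, with cyclic center generated by `z₀` and a
non-central element of order `p` has the properties `SL`. -/
theorem no_small_aut {p : ℕ} [Fact p.Prime] (hp23 : p = 2 ∨ p = 3) {P : Type*} [Group P]
    [Finite P] (h : SL p P) (hcard : Nat.card P = p ^ 3) (z₀ a : P)
    (hz₀c : ∀ w, z₀ * w = w * z₀) (hz₀p : z₀ ^ p = 1)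
    (hz : ∀ z : P, (∀ w, z * w = w * z) → ∃ i : ℕ, z = z₀ ^ i)
    (hap : a ^ p = 1) (hanc : ∃ w, a * w ≠ w * a) : False := by
  classical
  have hp : p.Prime := Fact.out
  obtain ⟨w₀, hw₀⟩ := hanc
  obtain ⟨γ, q, hq, hqp, hγq, hγc, hγB⟩ := h.aut ⟨a, w₀, hw₀⟩
  haveI : Fact q.Prime := ⟨hq⟩
  have hT1 : ∀ y : P, (∃ z : P, (∀ w, z * w = w * z) ∧ ∃ u ∈ Subgroup.zpowers y, γ y = z * u) →
      ∀ w, y * w = w * y := by
    rintro y ⟨z, hzc, u, hu, hyu⟩
    set B : Subgroup P := Subgroup.zpowers y ⊔ Subgroup.center P with hB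
    have hzB : z ∈ B := (le_sup_right : Subgroup.center P ≤ B)
      (Subgroup.mem_center_iff.2 (fun g => (hzc g).symm))
    have hinv : ∀ b ∈ B, γ b ∈ B := by
      have h1 : B.map γ.toMonoidHom ≤ B := by
        rw [hB, Subgroup.map_sup, MonoidHom.map_zpowers]
        apply sup_le
        · rw [Subgroup.zpowers_le]
          show γ y ∈ _
          rw [hyu]
          exact Subgroup.mul_mem _ hzB ((le_sup_left : Subgroup.zpowers y ≤ B) hu)
        · rintro _ ⟨c, hc, rfl⟩
          show γ c ∈ _
          rw [hγc c (fun w => ((Subgroup.mem_center_iff.1 hc) w).symm)]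
          exact (le_sup_right : Subgroup.center P ≤ B) hc
      intro b hb
      exact h1 ⟨b, hb, rfl⟩
    have hyB : y ∈ B := (le_sup_left : Subgroup.zpowers y ≤ B) (Subgroup.mem_zpowers y)
    rcases hγB B hinv with h1 | h1
    · exact h1 y hyB
    · intro w
      have h2 : B ≤ Subgroup.centralizer ({y} : Set P) := by
        rw [hB]
        apply sup_le
        · rw [Subgroup.zpowers_le, Subgroup.mem_centralizer_iff]
          intro h hh
          rw [Set.mem_singleton_iff] at hh
          subst hh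
          rfl
        · intro c hc
          rw [Subgroup.mem_centralizer_iff]
          intro h hh
          rw [Set.mem_singleton_iff] at hh
          subst hh
          exact (Subgroup.mem_center_iff.1 hc h)
      have h3 := h2 (h1 ▸ Subgroup.mem_top w)
      rw [Subgroup.mem_centralizer_iff] at h3
      exact h3 y rfl
  have hz₀1 : z₀ ≠ 1 := by
    intro h1
    apply hw₀
    obtain ⟨i, hi⟩ := hz ⁅a, w₀⁆ (fun w => h.cl2 a w₀ w)
    rw [h1, one_pow] at hi
    exact (commutatorElement_eq_one_iff_mul_comm).1 hi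
  have hord : orderOf z₀ = p := orderOf_eq_prime hz₀p hz₀1
  have hzpc : ∀ (i : ℤ) (w : P), z₀ ^ i * w = w * z₀ ^ i := by
    intro i w
    exact (Commute.zpow_left (show Commute z₀ w from hz₀c w) i).eq
  have hfixset : Function.fixedPoints (γ : P → P) = (Subgroup.zpowers z₀ : Set P) := by
    ext y
    constructor
    · intro hy
      have hyc := hT1 y ⟨1, fun w => by simp, y, Subgroup.mem_zpowers y, by
        rw [one_mul]; exact hy⟩
      obtain ⟨i, hi⟩ := hz y hyc
      rw [hi]
      exact Subgroup.pow_mem _ (Subgroup.mem_zpowers z₀) i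
    · intro hy
      obtain ⟨i, rfl⟩ := Subgroup.mem_zpowers_iff.1 hy
      exact hγc _ (hzpc i)
  have hmod : Nat.card P ≡ p [MOD q] := by
    haveI := Fintype.ofFinite P
    let f : Function.End P := (γ : P → P)
    have hf : f ^ q ^ 1 = 1 := by
      rw [pow_one]
      have h1 := hom_coe_pow (fun g : Function.End P ↦ g) rfl (fun g h ↦ rfl) f q
      funext x
      exact (congrFun h1 x).trans (hγq x)
    have h2 := Equiv.Perm.card_fixedPoints_modEq (f := f) (p := q) (n := 1) hf
    rw [Nat.card_eq_fintype_card]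
    have h3 : Fintype.card (Function.fixedPoints f) = p := by
      rw [← Nat.card_eq_fintype_card]
      have h5 : Function.fixedPoints f = (Subgroup.zpowers z₀ : Set P) := hfixset
      rw [h5]
      have h4 : Nat.card (Subgroup.zpowers z₀) = p := by rw [Nat.card_zpowers, hord]
      exact h4
    rw [h3] at h2
    exact h2
  rw [hcard] at hmod
  have hdvd : q ∣ p ^ 3 - p := by
    have hle : p ≤ p ^ 3 := by
      calc p = p ^ 1 := (pow_one p).symm
        _ ≤ p ^ 3 := Nat.pow_le_pow_right hp.pos (by norm_num)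
    exact (Nat.modEq_iff_dvd' hle).1 hmod.symm
  have hzp : ∀ z : P, (∀ w, z * w = w * z) → z ^ p = 1 := by
    intro z hzc
    obtain ⟨i, rfl⟩ := hz z hzc
    rw [← pow_mul, mul_comm, pow_mul, hz₀p, one_pow]
  rcases hp23 with rfl | rfl
  · -- `p = 2`, so `q = 3`
    have hq3 : q = 3 := by
      have h6 : q ∣ 2 * 3 := by
        have h0 : (2 : ℕ) ^ 3 - 2 = 2 * 3 := by norm_num
        rw [h0] at hdvd
        exact hdvd
      rcases (Nat.Prime.dvd_mul hq).1 h6 with h7 | h7
      · exact absurd ((Nat.prime_dvd_prime_iff_eq hq Nat.prime_two).1 h7) hqp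
      · exact (Nat.prime_dvd_prime_iff_eq hq Nat.prime_three).1 h7
    subst hq3
    have hγ3 : ∀ x, γ (γ (γ x)) = x := fun x => hγq x
    -- the product of the orbit of `a` is central
    have hwc : ∀ w, (a * γ a * γ (γ a)) * w = w * (a * γ a * γ (γ a)) := by
      apply hT1
      refine ⟨⁅a⁻¹, a * γ a * γ (γ a)⁆, fun w => h.cl2 _ _ w, a * γ a * γ (γ a),
        Subgroup.mem_zpowers _, ?_⟩
      rw [map_mul, map_mul, hγ3, commutatorElement_def]
      group
    have hz1 := hzp _ hwc
    have ha2 : a * a = 1 := by rw [← pow_two]; exact hap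
    have hga2 : γ a * γ a = 1 := by rw [← map_mul, ha2, map_one]
    have hgga2 : γ (γ a) * γ (γ a) = 1 := by rw [← map_mul, hga2, map_one]
    -- `(a * γ a) ^ 2 = 1`
    obtain ⟨z₁, hz₁⟩ : ∃ z₁ : P, z₁ = a * γ a * γ (γ a) := ⟨_, rfl⟩
    rw [← hz₁] at hwc hz1
    have hgg : γ (γ a) = (a * γ a)⁻¹ * z₁ := by rw [hz₁]; group
    have hsq : (a * γ a) * (a * γ a) = 1 := by
      have h7 : ((a * γ a)⁻¹ * z₁) * ((a * γ a)⁻¹ * z₁) = 1 := by rw [← hgg]; exact hgga2
      have h8 : ((a * γ a)⁻¹ * z₁) * ((a * γ a)⁻¹ * z₁) =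
          ((a * γ a) * (a * γ a))⁻¹ * (z₁ * z₁) := by
        rw [mul_assoc, hwc ((a * γ a)⁻¹ * z₁)]
        group
      rw [h8, ← pow_two z₁, hz1, mul_one, inv_eq_one] at h7
      exact h7
    have hcomm1 : a * γ a = γ a * a := by
      have h9 : a * γ a = (γ a)⁻¹ * a⁻¹ := by
        rw [← mul_inv_rev]
        exact eq_inv_of_mul_eq_one_left hsq
      rw [h9, inv_eq_of_mul_eq_one_right hga2, inv_eq_of_mul_eq_one_right ha2]
    have hcomm2 : a * γ (γ a) = γ (γ a) * a := by
      have h10 : a * (a * γ a)⁻¹ = (a * γ a)⁻¹ * a := by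
        have h11 : a * (a * γ a) = (a * γ a) * a := by
          rw [mul_assoc, ← hcomm1]
        calc a * (a * γ a)⁻¹ = (a * γ a)⁻¹ * ((a * γ a) * a) * (a * γ a)⁻¹ := by group
          _ = (a * γ a)⁻¹ * (a * (a * γ a)) * (a * γ a)⁻¹ := by rw [h11]
          _ = (a * γ a)⁻¹ * a := by group
      calc a * γ (γ a) = a * (a * γ a)⁻¹ * z₁ := by rw [hgg, mul_assoc]
        _ = (a * γ a)⁻¹ * a * z₁ := by rw [h10]
        _ = (a * γ a)⁻¹ * (z₁ * a) := by rw [mul_assoc, ← hwc a]
        _ = γ (γ a) * a := by rw [hgg, mul_assoc]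
    set B : Subgroup P := Subgroup.closure ({a, γ a, γ (γ a)} : Set P) ⊔ Subgroup.center P
      with hB
    have hinv : ∀ b ∈ B, γ b ∈ B := by
      have h1 : B.map γ.toMonoidHom ≤ B := by
        rw [hB, Subgroup.map_sup, MonoidHom.map_closure]
        apply sup_le
        · refine le_trans ?_ le_sup_left
          rw [Subgroup.closure_le]
          rintro _ ⟨x, hx, rfl⟩
          apply Subgroup.subset_closure
          show γ x ∈ ({a, γ a, γ (γ a)} : Set P)
          rcases hx with rfl | rfl | rfl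
          · right; left; rfl
          · right; right; rfl
          · left; exact hγ3 a
        · rintro _ ⟨c, hc, rfl⟩
          show γ c ∈ _
          rw [hγc c (fun w => ((Subgroup.mem_center_iff.1 hc) w).symm)]
          exact (le_sup_right : Subgroup.center P ≤ _) hc
      intro b hb
      exact h1 ⟨b, hb, rfl⟩
    have haB : a ∈ B := (le_sup_left : Subgroup.closure ({a, γ a, γ (γ a)} : Set P) ≤ B)
      (Subgroup.subset_closure (by left; rfl))
    have hBcent : B ≤ Subgroup.centralizer ({a} : Set P) := by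
      rw [hB]
      apply sup_le
      · rw [Subgroup.closure_le]
        intro x hx
        rw [SetLike.mem_coe, Subgroup.mem_centralizer_iff]
        intro h hh
        rw [Set.mem_singleton_iff] at hh
        subst hh
        rcases hx with rfl | rfl | rfl
        · rfl
        · exact hcomm1
        · exact hcomm2
      · intro c hc
        rw [Subgroup.mem_centralizer_iff]
        intro h hh
        rw [Set.mem_singleton_iff] at hh
        subst hh
        exact (Subgroup.mem_center_iff.1 hc h)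
    rcases hγB B hinv with h1 | h1
    · exact hw₀ (h1 a haB w₀)
    · have h3 := hBcent (h1 ▸ Subgroup.mem_top w₀)
      rw [Subgroup.mem_centralizer_iff] at h3
      exact hw₀ (h3 a rfl)
  · -- `p = 3`, so `q = 2`
    have hq2 : q = 2 := by
      have h24 : q ∣ 2 ^ 3 * 3 := by
        have h0 : (3 : ℕ) ^ 3 - 3 = 2 ^ 3 * 3 := by norm_num
        rw [h0] at hdvd
        exact hdvd
      rcases (Nat.Prime.dvd_mul hq).1 h24 with h7 | h7
      · exact (Nat.prime_dvd_prime_iff_eq hq Nat.prime_two).1 (hq.dvd_of_dvd_pow h7)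
      · exact absurd ((Nat.prime_dvd_prime_iff_eq hq Nat.prime_three).1 h7) hqp
    subst hq2
    have hγ2 : ∀ x, γ (γ x) = x := fun x => hγq x
    have hall : ∀ x : P, ∀ w, x * w = w * x := by
      intro x
      have h1 : ∀ w, (x * γ x) * w = w * (x * γ x) := by
        apply hT1
        refine ⟨⁅γ x, x⁆, fun w => h.cl2 _ _ w, x * γ x, Subgroup.mem_zpowers _, ?_⟩
        rw [map_mul, hγ2, commutatorElement_def]
        group
      apply hT1
      refine ⟨x * γ x, h1, x⁻¹, Subgroup.inv_mem _ (Subgroup.mem_zpowers x), ?_⟩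
      rw [h1 x⁻¹]
      group
    exact hw₀ (hall a w₀)

end Cfsg.Agent.Lib.Helper22.PL1
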