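import Mathlib
import Cfsg.Agent.S1324
import Cfsg.Agent.Lib.Helper54.ThmBAbelian
import Cfsg.Agent.Lib.Helper63.PLength
import Cfsg.Agent.Lib.Helper63.HallHigman
import Cfsg.Agent.Lib.Helper69.PSolvable
import Cfsg.Agent.Lib.Helper22.PL1.SchmidtAut
import Cfsg.Agent.Lib.Helper22.PL1.ChainStab
import Cfsg.Agent.Lib.Helper22.PL1.NoSmall

set_option autoImplicit false

namespace Cfsg.Agent.Lib.Helper22.PL1

open scoped commutatorElement
open Cfsg

universe u v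

/-- In a minimal situation (`S` is normal in every proper subgroup containing it), the image of
`S` modulo `O_p(G)` has order `p`. -/
theorem card_map_eq_p {G : Type u} [Group G] [Finite G] {p : ℕ} [Fact p.Prime]
    (hsol : IsPSolvable p G) (S : Subgroup G) (hSp : IsPGroup p S)
    (hZV : ∀ z ∈ S, (∀ w ∈ S, z * w = w * z) → z ∈ pCore p G)
    (hcl : ∀ x ∈ S, ∀ y ∈ S, ∀ w ∈ S, ⁅x, y⁆ * w = w * ⁅x, y⁆)
    (hpw : ∀ x ∈ S, ∀ w ∈ S, x ^ p * w = w * x ^ p)
    (hM1 : ∀ H : Subgroup G, H ≠ ⊤ → S ≤ H → ∀ h ∈ H, ∀ x ∈ S, h * x * h⁻¹ ∈ S)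
    (hSV : ¬ S ≤ pCore p G) :
    Nat.card (S.map (QuotientGroup.mk' (pCore p G))) = p := by
  classical
  have hp : p.Prime := Fact.out
  set V := pCore p G with hV
  haveI hVn : V.Normal := inferInstance
  have hVp : IsPGroup p V := Cfsg.Agent.Lib.Helper63.pCore_isPGroup' p G
  set π : G →* G ⧸ V := QuotientGroup.mk' V with hπ
  have hπs : Function.Surjective π := QuotientGroup.mk'_surjective V
  set T : Subgroup (G ⧸ V) := S.map π with hT
  have hTp : IsPGroup p T := hSp.map π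
  have hsolQ : IsPSolvable p (G ⧸ V) :=
    Cfsg.Agent.Lib.Helper69.isPSolvable_of_surj p π hπs hsol
  have hcoreQ : pCore p (G ⧸ V) = ⊥ := by
    rw [eq_bot_iff]
    have h1 : (pCore p (G ⧸ V)).comap π ≤ pCore p G := by
      apply Cfsg.Agent.Lib.Helper63.le_pCore' (Subgroup.Normal.comap inferInstance _)
      apply IsPGroup.comap_of_ker_isPGroup (Cfsg.Agent.Lib.Helper63.pCore_isPGroup' p _)
      rw [hπ, QuotientGroup.ker_mk']
      exact hVp
    intro y hy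
    obtain ⟨x, rfl⟩ := hπs y
    have h2 : x ∈ V := h1 hy
    rw [Subgroup.mem_bot]
    exact (QuotientGroup.eq_one_iff x).2 h2
  have hcomS : ∀ x ∈ S, ∀ y ∈ S, ⁅x, y⁆ ∈ S := by
    intro x hx y hy
    rw [commutatorElement_def]
    exact S.mul_mem (S.mul_mem (S.mul_mem hx hy) (S.inv_mem hx)) (S.inv_mem hy)
  have hTc : ∀ s ∈ T, ∀ t ∈ T, s * t = t * s := by
    rintro _ ⟨x, hx, rfl⟩ _ ⟨y, hy, rfl⟩
    rw [← map_mul, ← map_mul]
    show (QuotientGroup.mk (x * y) : G ⧸ V) = QuotientGroup.mk (y * x)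
    rw [QuotientGroup.eq]
    have h1 : (x * y)⁻¹ * (y * x) = ⁅y⁻¹, x⁻¹⁆ := by rw [commutatorElement_def]; group
    rw [h1]
    exact hZV _ (hcomS _ (S.inv_mem hy) _ (S.inv_mem hx))
      (fun w hw => hcl _ (S.inv_mem hy) _ (S.inv_mem hx) w hw)
  have hTe : ∀ t ∈ T, t ^ p = 1 := by
    rintro _ ⟨x, hx, rfl⟩
    rw [← map_pow]
    exact (QuotientGroup.eq_one_iff _).2
      (hZV _ (S.pow_mem hx p) (fun w hw => hpw x hx w hw))
  have hTel : IsElementaryAbelian p T :=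
    ⟨⟨⟨fun a b => Subtype.ext (hTc a a.2 b b.2)⟩⟩, hTe⟩
  obtain ⟨y₀, hy₀S, hy₀V⟩ := SetLike.not_le_iff_exists.1 hSV
  have hyT : π y₀ ∈ T := ⟨y₀, hy₀S, rfl⟩
  have hy1 : π y₀ ≠ 1 := fun h => hy₀V ((QuotientGroup.eq_one_iff _).1 h)
  obtain ⟨r, hr, R, hrp, hRr, hTR, hyR⟩ :=
    Cfsg.Agent.Lib.Helper54.exists_normalized_not_centralized_of_mem hsolQ hcoreQ T hTp (π y₀)
      hyT hy1
  haveI : Fact r.Prime := ⟨hr⟩
  have hdisj : Disjoint T R := IsPGroup.disjoint_of_ne p r (Ne.symm hrp) T R hTp hRr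
  -- key claim
  have hKC : ∀ R' : Subgroup (G ⧸ V), R' ≤ R → T ≤ Subgroup.normalizer (R' : Set (G ⧸ V)) →
      (R' ⊔ T).comap π ≠ ⊤ → ∀ s ∈ R', ∀ t ∈ T, s * t = t * s := by
    intro R' hR'R hTR' hne s hs t ht
    have hSH : S ≤ (R' ⊔ T).comap π := by
      intro x hx
      exact (le_sup_right : T ≤ R' ⊔ T) ⟨x, hx, rfl⟩
    obtain ⟨g, rfl⟩ := hπs s
    obtain ⟨x, hx, rfl⟩ := ht
    have hgH : g ∈ (R' ⊔ T).comap π := (le_sup_left : R' ≤ R' ⊔ T) hs
    have h1 := hM1 _ hne hSH g hgH x hx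
    have h2 : π g * π x * (π g)⁻¹ ∈ T := ⟨g * x * g⁻¹, h1, by simp⟩
    have h3 : π x * (π g)⁻¹ * (π x)⁻¹ ∈ R' :=
      (Subgroup.mem_normalizer_iff.1 (hTR' ⟨x, hx, rfl⟩) (π g)⁻¹).1 (R'.inv_mem hs)
    have h4 : π g * π x * (π g)⁻¹ * (π x)⁻¹ ∈ T := T.mul_mem h2 (T.inv_mem ⟨x, hx, rfl⟩)
    have h5 : π g * π x * (π g)⁻¹ * (π x)⁻¹ ∈ R := by
      have h6 : π g * π x * (π g)⁻¹ * (π x)⁻¹ = π g * (π x * (π g)⁻¹ * (π x)⁻¹) := by group
      rw [h6]
      exact R.mul_mem (hR'R hs) (hR'R h3)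
    have h6 := Subgroup.disjoint_def.1 hdisj h4 h5
    calc π g * π x = (π g * π x * (π g)⁻¹ * (π x)⁻¹) * π x * π g := by group
      _ = π x * π g := by rw [h6, one_mul]
  have hlt : ¬ p ^ 2 ≤ Nat.card T := by
    intro hge
    have hRnp : ¬ p ∣ Nat.card R := by
      obtain ⟨n, hn⟩ := hRr.exists_card_eq
      rw [hn]
      intro hdvd
      exact hrp ((Nat.prime_dvd_prime_iff_eq hp hr).1 (hp.dvd_of_dvd_pow hdvd)).symm
    have hgen := Cfsg.Agent.S1324.result p T R hTel hge hRnp hTR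
    have hle : (⨆ B : {B : Subgroup (G ⧸ V) // B ≤ T ∧ B.relIndex T ≤ p},
        R ⊓ Subgroup.centralizer ((B : Subgroup (G ⧸ V)) : Set (G ⧸ V))) ≤
        Subgroup.centralizer ({π y₀} : Set (G ⧸ V)) := by
      apply iSup_le
      rintro ⟨B, hBT, hBidx⟩
      by_cases htop : ((R ⊓ Subgroup.centralizer (B : Set (G ⧸ V))) ⊔ T).comap π = ⊤
      · exfalso
        have htop' : (R ⊓ Subgroup.centralizer (B : Set (G ⧸ V))) ⊔ T = ⊤ := by
          have h1 := congrArg (Subgroup.map π) htop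
          rwa [Subgroup.map_comap_eq_self_of_surjective hπs,
            Subgroup.map_top_of_surjective π hπs] at h1
        have hBc : ∀ b ∈ B, ∀ g : G ⧸ V, g * b = b * g := by
          intro b hb g
          have h1 : (R ⊓ Subgroup.centralizer (B : Set (G ⧸ V))) ⊔ T ≤
              Subgroup.centralizer ({b} : Set (G ⧸ V)) := by
            apply sup_le
            · intro s hs
              rw [Subgroup.mem_centralizer_iff]
              intro h hh
              rw [Set.mem_singleton_iff] at hh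
              subst hh
              exact (Subgroup.mem_centralizer_iff.1 hs.2 h hb)
            · intro t ht
              rw [Subgroup.mem_centralizer_iff]
              intro h hh
              rw [Set.mem_singleton_iff] at hh
              subst hh
              exact hTc h (hBT hb) t ht
          have h2 := h1 (htop' ▸ Subgroup.mem_top g)
          rw [Subgroup.mem_centralizer_iff] at h2
          exact (h2 b rfl).symm
        have hBn : B.Normal :=
          ⟨fun n hn g => by rw [hBc n hn g, mul_inv_cancel_right]; exact hn⟩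
        have hBp : IsPGroup p B := hTp.to_le hBT
        have hBbot : B = ⊥ := by
          have h3 := Cfsg.Agent.Lib.Helper63.le_pCore' hBn hBp
          rw [hcoreQ] at h3
          exact le_bot_iff.1 h3
        rw [hBbot, Subgroup.relIndex_bot_left] at hBidx
        have h4 : p < p ^ 2 := by
          calc p = p ^ 1 := (pow_one p).symm
            _ < p ^ 2 := Nat.pow_lt_pow_right hp.one_lt (by norm_num)
        omega
      · intro s hs
        rw [Subgroup.mem_centralizer_iff]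
        intro h hh
        rw [Set.mem_singleton_iff] at hh
        subst hh
        have hTC : T ≤ Subgroup.centralizer (B : Set (G ⧸ V)) := by
          intro t ht
          rw [Subgroup.mem_centralizer_iff]
          intro b hb
          exact hTc b (hBT hb) t ht
        have hTRB : T ≤ Subgroup.normalizer
            ((R ⊓ Subgroup.centralizer (B : Set (G ⧸ V)) : Subgroup (G ⧸ V)) : Set (G ⧸ V)) := by
          intro t ht
          rw [Subgroup.mem_normalizer_iff]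
          intro h
          rw [Subgroup.mem_inf, Subgroup.mem_inf, Subgroup.mem_normalizer_iff.1 (hTR ht) h,
            Subgroup.mem_normalizer_iff.1 (Subgroup.le_normalizer (hTC ht)) h]
        exact (hKC _ inf_le_left hTRB htop s hs (π y₀) hyT).symm
    apply hyR
    rw [Subgroup.mem_centralizer_iff]
    intro h hh
    have h1 : h ∈ Subgroup.centralizer ({π y₀} : Set (G ⧸ V)) := by
      apply hle
      rw [← hgen]
      exact hh
    rw [Subgroup.mem_centralizer_iff] at h1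
    exact (h1 (π y₀) rfl).symm
  obtain ⟨n, hn⟩ := hTp.exists_card_eq
  have hn1 : n ≠ 0 := by
    intro h0
    rw [h0, pow_zero] at hn
    have h1 := Subgroup.eq_bot_of_card_le T hn.le
    rw [h1, Subgroup.mem_bot] at hyT
    exact hy1 hyT
  have hn2 : n < 2 := by
    by_contra h
    push Not at h
    apply hlt
    rw [hn]
    exact Nat.pow_le_pow_right hp.pos h
  have hn3 : n = 1 := by omega
  rw [hn, hn3, pow_one]

theorem comm_pow_right {G : Type*} [Group G] (a x : G) (h : ⁅a, x⁆ * x = x * ⁅a, x⁆) (n : ℕ) :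
    ⁅a, x ^ n⁆ = ⁅a, x⁆ ^ n := by
  induction n with
  | zero => simp
  | succ n ih =>
    have hc : ⁅a, x⁆ * x ^ n = x ^ n * ⁅a, x⁆ :=
      (Commute.pow_right (show Commute ⁅a, x⁆ x from h) n).eq
    have h1 : ⁅a, x ^ (n + 1)⁆ = ⁅a, x ^ n⁆ * (x ^ n * ⁅a, x⁆ * (x ^ n)⁻¹) := by
      simp only [commutatorElement_def, pow_succ]; group
    rw [h1, ← hc, mul_inv_cancel_right, ih, pow_succ]

/-- The structure of a minimal counterexample is contradictory for `p ∈ {2, 3}`. -/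
theorem structure_false {G : Type u} [Group G] [Finite G] {p : ℕ} [Fact p.Prime]
    (hp23 : p = 2 ∨ p = 3)
    (hC : Subgroup.centralizer (pCore p G : Set G) ≤ pCore p G)
    (S : Subgroup G) (hSp : IsPGroup p S) (hVS : pCore p G ≤ S) (hSL : SL p ↥S)
    (hcard : Nat.card (S.map (QuotientGroup.mk' (pCore p G))) = p)
    (hSV : ¬ S ≤ pCore p G) : False := by
  classical
  have hp : p.Prime := Fact.out
  set V := pCore p G with hV
  haveI hVn : V.Normal := inferInstance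
  have hVp : IsPGroup p V := Cfsg.Agent.Lib.Helper63.pCore_isPGroup' p G
  have hcl : ∀ x ∈ S, ∀ y ∈ S, ∀ w ∈ S, ⁅x, y⁆ * w = w * ⁅x, y⁆ := fun x hx y hy w hw =>
    congrArg Subtype.val (hSL.cl2 ⟨x, hx⟩ ⟨y, hy⟩ ⟨w, hw⟩)
  have hpw : ∀ x ∈ S, ∀ w ∈ S, x ^ p * w = w * x ^ p := fun x hx w hw =>
    congrArg Subtype.val (hSL.powp ⟨x, hx⟩ ⟨w, hw⟩)
  have hse : ∀ x ∈ S, (∃ w ∈ S, x * w ≠ w * x) → ∀ z ∈ S, (∀ w ∈ S, z * w = w * z) →
      ∃ y ∈ S, ⁅x, y⁆ = z := by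
    rintro x hx ⟨w, hw, hxw⟩ z hz hzc
    obtain ⟨y, hy⟩ := hSL.se ⟨x, hx⟩ ⟨⟨w, hw⟩, fun h => hxw (congrArg Subtype.val h)⟩ ⟨z, hz⟩
      (fun w => Subtype.ext (hzc w w.2))
    exact ⟨y, y.2, congrArg Subtype.val hy⟩
  have hcomS : ∀ x ∈ S, ∀ y ∈ S, ⁅x, y⁆ ∈ S := by
    intro x hx y hy
    rw [commutatorElement_def]
    exact S.mul_mem (S.mul_mem (S.mul_mem hx hy) (S.inv_mem hx)) (S.inv_mem hy)
  have hZV : ∀ z ∈ S, (∀ w ∈ S, z * w = w * z) → z ∈ V := by
    intro z _ hzc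
    apply hC
    rw [Subgroup.mem_centralizer_iff]
    intro v hv
    exact (hzc v (hVS hv)).symm
  obtain ⟨x₀, hx₀S, hx₀V⟩ := SetLike.not_le_iff_exists.1 hSV
  set π : G →* G ⧸ V := QuotientGroup.mk' V with hπ
  have hx₀p : π x₀ ^ p = 1 := by
    rw [← map_pow]
    exact (QuotientGroup.eq_one_iff _).2
      (hZV _ (S.pow_mem hx₀S p) (fun w hw => hpw x₀ hx₀S w hw))
  have hdec : ∀ y ∈ S, ∃ i : ℕ, i < p ∧ y * (x₀ ^ i)⁻¹ ∈ V := by
    intro y hy
    have hg1 : (⟨π x₀, x₀, hx₀S, rfl⟩ : S.map π) ≠ 1 := by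
      intro h
      have h1 := congrArg Subtype.val h
      exact hx₀V ((QuotientGroup.eq_one_iff _).1 h1)
    have htop := zpowers_eq_top_of_prime_card hcard hg1
    have hmem : (⟨π y, y, hy, rfl⟩ : S.map π) ∈
        Subgroup.zpowers (⟨π x₀, x₀, hx₀S, rfl⟩ : S.map π) := htop ▸ Subgroup.mem_top _
    rw [← mem_powers_iff_mem_zpowers] at hmem
    obtain ⟨i, hi⟩ := (Submonoid.mem_powers_iff _ _).1 hmem
    have hi' : π x₀ ^ i = π y := by
      have h2 := congrArg Subtype.val hi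
      rwa [Subgroup.coe_pow] at h2
    refine ⟨i % p, Nat.mod_lt _ hp.pos, ?_⟩
    rw [← QuotientGroup.eq_one_iff]
    show π (y * (x₀ ^ (i % p))⁻¹) = 1
    rw [map_mul, map_inv, map_pow, ← pow_eq_pow_mod i hx₀p, hi', mul_inv_cancel]
  -- a non-central element of order `p` in `Ω₁(Z(V))`
  have hex : ∃ a ∈ V, (∀ v ∈ V, a * v = v * a) ∧ a ^ p = 1 ∧ ∃ w ∈ S, a * w ≠ w * a := by
    by_contra hcon
    push Not at hcon
    apply hSV
    intro x hx
    have hZb : ∀ z ∈ (⊥ : Subgroup G), z ∈ pCore p G ∧ (∀ v ∈ pCore p G, z * v = v * z) ∧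
        z ^ p = 1 := by
      intro z hz
      rw [Subgroup.mem_bot] at hz
      subst hz
      exact ⟨Subgroup.one_mem _, fun v _ => by rw [one_mul, mul_one], one_pow p⟩
    refine chain_le_pCore hC ⊥ hZb x ?_ ?_ ?_
    · intro z hz
      rw [Subgroup.mem_bot] at hz
      subst hz
      rw [one_mul, mul_one]
    · intro a ha hac hap
      rw [Subgroup.mem_bot, ← hcon a ha hac hap x hx]
      group
    · intro v hv w hw
      exact hcl x hx v (hVS hv) w (hVS hw)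
  obtain ⟨a, haV, hac, hap, w₀, hw₀S, haw⟩ := hex
  have haS : a ∈ S := hVS haV
  obtain ⟨z₀, hz₀⟩ : ∃ z₀ : G, z₀ = ⁅a, x₀⁆ := ⟨_, rfl⟩
  have hz₀S : z₀ ∈ S := hz₀ ▸ hcomS a haS x₀ hx₀S
  have hz₀c : ∀ w ∈ S, z₀ * w = w * z₀ := fun w hw => by
    rw [hz₀]; exact hcl a haS x₀ hx₀S w hw
  have hz₀pc : ∀ (i : ℕ), ∀ w ∈ S, z₀ ^ i * w = w * z₀ ^ i := fun i w hw =>
    (Commute.pow_left (show Commute z₀ w from hz₀c w hw) i).eq
  have hcp : ∀ i : ℕ, ⁅a, x₀ ^ i⁆ = z₀ ^ i := fun i => by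
    rw [hz₀]
    exact comm_pow_right a x₀ (hz₀ ▸ hz₀c x₀ hx₀S) i
  have hay : ∀ y ∈ S, ∃ i : ℕ, ⁅a, y⁆ = z₀ ^ i := by
    intro y hy
    obtain ⟨i, -, hi⟩ := hdec y hy
    refine ⟨i, ?_⟩
    obtain ⟨v, hv⟩ : ∃ v : G, v = y * (x₀ ^ i)⁻¹ := ⟨_, rfl⟩
    rw [← hv] at hi
    have hy' : y = v * x₀ ^ i := by rw [hv]; group
    have h1 : ⁅a, v * x₀ ^ i⁆ = (a * v * a⁻¹ * v⁻¹) * (v * ⁅a, x₀ ^ i⁆ * v⁻¹) := by
      simp only [commutatorElement_def]; group
    have h2 : a * v * a⁻¹ * v⁻¹ = 1 := by rw [hac v hi]; group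
    rw [hy', h1, h2, one_mul, hcp, ← hz₀pc i v (hVS hi), mul_inv_cancel_right]
  have hZ : ∀ z ∈ S, (∀ w ∈ S, z * w = w * z) → ∃ i : ℕ, z = z₀ ^ i := by
    intro z hz hzc
    obtain ⟨y, hy, hyz⟩ := hse a haS ⟨w₀, hw₀S, haw⟩ z hz hzc
    obtain ⟨i, hi⟩ := hay y hy
    exact ⟨i, by rw [← hyz, hi]⟩
  have hz₀1 : z₀ ≠ 1 := by
    intro h1
    apply haw
    obtain ⟨i, hi⟩ := hay w₀ hw₀S
    rw [h1, one_pow] at hi
    exact commutatorElement_eq_one_iff_mul_comm.1 hi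
  have hz₀p : z₀ ^ p = 1 := by
    rw [← hcp p, commutatorElement_eq_one_iff_mul_comm]
    exact (hpw x₀ hx₀S a haS).symm
  have hz₀V : z₀ ∈ V := hZV z₀ hz₀S hz₀c
  have hord0 : orderOf z₀ = p := orderOf_eq_prime hz₀p hz₀1
  -- `V` is abelian
  have hVab : ∀ v ∈ V, ∀ w ∈ V, v * w = w * v := by
    by_contra hcon
    push Not at hcon
    obtain ⟨v, hv, w, hw, hvw⟩ := hcon
    have hc1 : ⁅v, w⁆ ≠ 1 := fun h => hvw (commutatorElement_eq_one_iff_mul_comm.1 h)
    obtain ⟨i, hi⟩ := hZ ⁅v, w⁆ (hcomS v (hVS hv) w (hVS hw))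
      (fun u hu => hcl v (hVS hv) w (hVS hw) u hu)
    have hordc : orderOf ⁅v, w⁆ = p := by
      apply orderOf_eq_prime _ hc1
      rw [hi, ← pow_mul, mul_comm, pow_mul, hz₀p, one_pow]
    have hzeq : Subgroup.zpowers ⁅v, w⁆ = Subgroup.zpowers z₀ := by
      apply Subgroup.eq_of_le_of_card_ge
      · rw [Subgroup.zpowers_le, hi]
        exact Subgroup.pow_mem _ (Subgroup.mem_zpowers z₀) i
      · rw [Nat.card_zpowers, Nat.card_zpowers, hordc, hord0]
    have hZs : Subgroup.zpowers z₀ = ⁅V, V⁆ := by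
      apply le_antisymm
      · rw [← hzeq, Subgroup.zpowers_le]
        exact Subgroup.commutator_mem_commutator hv hw
      · rw [Subgroup.commutator_le]
        intro g₁ hg₁ g₂ hg₂
        obtain ⟨j, hj⟩ := hZ ⁅g₁, g₂⁆ (hcomS g₁ (hVS hg₁) g₂ (hVS hg₂))
          (fun u hu => hcl g₁ (hVS hg₁) g₂ (hVS hg₂) u hu)
        rw [hj]
        exact Subgroup.pow_mem _ (Subgroup.mem_zpowers z₀) j
    haveI hZn : (Subgroup.zpowers z₀).Normal := by rw [hZs]; infer_instance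
    apply hSV
    intro x hx
    have hZmem : ∀ z ∈ Subgroup.zpowers z₀, z ∈ S ∧ ∀ u ∈ S, z * u = u * z := by
      intro z hz
      obtain ⟨k, rfl⟩ := Subgroup.mem_zpowers_iff.1 hz
      exact ⟨S.zpow_mem hz₀S k,
        fun u hu => (Commute.zpow_left (show Commute z₀ u from hz₀c u hu) k).eq⟩
    have hZprop : ∀ z ∈ Subgroup.zpowers z₀, z ∈ pCore p G ∧
        (∀ v ∈ pCore p G, z * v = v * z) ∧ z ^ p = 1 := by
      intro z hz
      obtain ⟨hzS, hzc⟩ := hZmem z hz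
      refine ⟨hZV z hzS hzc, fun v' hv' => hzc v' (hVS hv'), ?_⟩
      obtain ⟨k, rfl⟩ := Subgroup.mem_zpowers_iff.1 hz
      rw [← zpow_natCast, ← zpow_mul, mul_comm, zpow_mul, zpow_natCast, hz₀p, one_zpow]
    refine chain_le_pCore hC (Subgroup.zpowers z₀) hZprop x ?_ ?_ ?_
    · intro z hz
      exact ((hZmem z hz).2 x hx).symm
    · intro a' ha' _ _
      obtain ⟨j, hj⟩ := hZ ⁅x, a'⁆ (hcomS x hx a' (hVS ha'))
        (fun u hu => hcl x hx a' (hVS ha') u hu)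
      show ⁅x, a'⁆ ∈ _
      rw [hj]
      exact Subgroup.pow_mem _ (Subgroup.mem_zpowers z₀) j
    · intro v' hv' w' hw'
      exact hcl x hx v' (hVS hv') w' (hVS hw')
  -- the commutator with `x₀` is multiplicative on `V`
  have hbil : ∀ v ∈ V, ∀ v' ∈ V, ⁅v * v', x₀⁆ = ⁅v, x₀⁆ * ⁅v', x₀⁆ := by
    intro v hv v' hv'
    have h1 : ⁅v * v', x₀⁆ = (v * ⁅v', x₀⁆ * v⁻¹) * ⁅v, x₀⁆ := by
      simp only [commutatorElement_def]; group
    rw [h1, ← hcl v' (hVS hv') x₀ hx₀S v (hVS hv), mul_inv_cancel_right]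
    exact hcl v' (hVS hv') x₀ hx₀S _ (hcomS v (hVS hv) x₀ hx₀S)
  have hapow : ∀ j : ℕ, ⁅a ^ j, x₀⁆ = z₀ ^ j := by
    intro j
    induction j with
    | zero => simp
    | succ j ih => rw [pow_succ, hbil _ (V.pow_mem haV j) a haV, ih, ← hz₀, ← pow_succ]
  have hVdec : ∀ v ∈ V, ∃ j k : ℕ, v = z₀ ^ k * a ^ j := by
    intro v hv
    obtain ⟨j, hj⟩ := hZ ⁅v, x₀⁆ (hcomS v (hVS hv) x₀ hx₀S)
      (fun u hu => hcl v (hVS hv) x₀ hx₀S u hu)
    obtain ⟨u, hu⟩ : ∃ u : G, u = v * (a ^ j)⁻¹ := ⟨_, rfl⟩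
    have huV : u ∈ V := by rw [hu]; exact V.mul_mem hv (V.inv_mem (V.pow_mem haV j))
    have hvu : v = u * a ^ j := by rw [hu]; group
    have h1 : ⁅u, x₀⁆ = 1 := by
      have h2 := hbil u huV (a ^ j) (V.pow_mem haV j)
      rw [← hvu, hj, hapow] at h2
      have h3 : ⁅u, x₀⁆ * z₀ ^ j = 1 * z₀ ^ j := by rw [one_mul]; exact h2.symm
      exact mul_right_cancel h3
    have hux : u * x₀ = x₀ * u := commutatorElement_eq_one_iff_mul_comm.1 h1
    have huc : ∀ w ∈ S, u * w = w * u := by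
      intro w hw
      obtain ⟨i, -, hi⟩ := hdec w hw
      obtain ⟨v', hv'⟩ : ∃ v' : G, v' = w * (x₀ ^ i)⁻¹ := ⟨_, rfl⟩
      rw [← hv'] at hi
      have hw' : w = v' * x₀ ^ i := by rw [hv']; group
      have hux' : u * x₀ ^ i = x₀ ^ i * u :=
        (Commute.pow_right (show Commute u x₀ from hux) i).eq
      rw [hw']
      calc u * (v' * x₀ ^ i) = (u * v') * x₀ ^ i := by rw [mul_assoc]
        _ = (v' * u) * x₀ ^ i := by rw [hVab u huV v' hi]
        _ = v' * (u * x₀ ^ i) := by rw [mul_assoc]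
        _ = v' * (x₀ ^ i * u) := by rw [hux']
        _ = v' * x₀ ^ i * u := by rw [mul_assoc]
    obtain ⟨k, hk⟩ := hZ u (hVS huV) huc
    exact ⟨j, k, by rw [hvu, hk]⟩
  have hSdec : ∀ y ∈ S, ∃ k j i : ℕ, k < p ∧ j < p ∧ i < p ∧ y = z₀ ^ k * a ^ j * x₀ ^ i := by
    intro y hy
    obtain ⟨i, hip, hi⟩ := hdec y hy
    obtain ⟨j, k, hjk⟩ := hVdec _ hi
    refine ⟨k % p, j % p, i, Nat.mod_lt _ hp.pos, Nat.mod_lt _ hp.pos, hip, ?_⟩
    rw [← pow_eq_pow_mod k hz₀p, ← pow_eq_pow_mod j hap, ← hjk]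
    group
  have hle : Nat.card S ≤ p ^ 3 := by
    let f : Fin p × Fin p × Fin p → S := fun t =>
      ⟨z₀ ^ (t.1 : ℕ) * a ^ (t.2.1 : ℕ) * x₀ ^ (t.2.2 : ℕ),
        S.mul_mem (S.mul_mem (S.pow_mem hz₀S _) (S.pow_mem haS _)) (S.pow_mem hx₀S _)⟩
    have hf : Function.Surjective f := by
      rintro ⟨y, hy⟩
      obtain ⟨k, j, i, hk, hj, hi, hyeq⟩ := hSdec y hy
      exact ⟨(⟨k, hk⟩, ⟨j, hj⟩, ⟨i, hi⟩), Subtype.ext hyeq.symm⟩
    have h1 := Nat.card_le_card_of_surjective f hf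
    have h2 : Nat.card (Fin p × Fin p × Fin p) = p ^ 3 := by
      rw [Nat.card_prod, Nat.card_prod, Nat.card_fin]; ring
    rwa [h2] at h1
  have hcardS : Nat.card S = p ^ 3 := by
    obtain ⟨n, hn⟩ := hSp.exists_card_eq
    obtain ⟨b, hb⟩ := hVp.exists_card_eq
    have hZsV : Subgroup.zpowers z₀ ≤ V := by rw [Subgroup.zpowers_le]; exact hz₀V
    have hcZ : Nat.card (Subgroup.zpowers z₀) = p := by rw [Nat.card_zpowers]; exact hord0
    have hb2 : 2 ≤ b := by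
      by_contra hlt
      have hb1 : b ≤ 1 := by omega
      have h1 : Nat.card V ≤ Nat.card (Subgroup.zpowers z₀) := by
        rw [hb, hcZ]
        calc p ^ b ≤ p ^ 1 := Nat.pow_le_pow_right hp.pos hb1
          _ = p := pow_one p
      have h2 := Subgroup.eq_of_le_of_card_ge hZsV h1
      have h3 : a ∈ Subgroup.zpowers z₀ := h2 ▸ haV
      obtain ⟨k, hk⟩ := Subgroup.mem_zpowers_iff.1 h3
      apply haw
      rw [← hk]
      exact (Commute.zpow_left (show Commute z₀ w₀ from hz₀c w₀ hw₀S) k).eq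
    have hn3 : 3 ≤ n := by
      by_contra hlt
      have hnb : n ≤ b := by omega
      have h1 : Nat.card S ≤ Nat.card V := by
        rw [hn, hb]; exact Nat.pow_le_pow_right hp.pos hnb
      have h2 := Subgroup.eq_of_le_of_card_ge hVS h1
      exact hSV (h2 ▸ le_rfl)
    rw [hn] at hle ⊢
    have hn3' : n ≤ 3 := (Nat.pow_le_pow_iff_right hp.one_lt).1 hle
    have hn3'' : n = 3 := by omega
    rw [hn3'']
  exact no_small_aut hp23 hSL hcardS ⟨z₀, hz₀S⟩ ⟨a, haS⟩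
    (fun w => Subtype.ext (hz₀c w w.2))
    (Subtype.ext (by rw [Subgroup.coe_pow]; exact hz₀p))
    (by
      intro z hzc
      obtain ⟨i, hi⟩ := hZ z z.2 (fun w hw => congrArg Subtype.val (hzc ⟨w, hw⟩))
      exact ⟨i, Subtype.ext (by rw [Subgroup.coe_pow]; exact hi)⟩)
    (Subtype.ext (by rw [Subgroup.coe_pow]; exact hap))
    ⟨⟨w₀, hw₀S⟩, fun h => haw (congrArg Subtype.val h)⟩

/-- **Main induction.** For `p ∈ {2, 3}`: a `p`-solvable group with `O_{p'} = 1` whose Sylow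
`p`-subgroup is isomorphic to a group with the properties `SL` has a normal Sylow
`p`-subgroup. -/
theorem sylow_le_pCore_small {p : ℕ} [Fact p.Prime] (hp23 : p = 2 ∨ p = 3) {P₀ : Type v}
    [Group P₀] (hP₀ : SL p P₀) :
    ∀ (n : ℕ) (G : Type u) [Group G] [Finite G], Nat.card G = n → IsPSolvable p G →
      pPrimeCore p G = ⊥ → ∀ Q : Sylow p G, Nonempty (↥(Q : Subgroup G) ≃* P₀) →
      (Q : Subgroup G) ≤ pCore p G := by
  intro n
  induction n using Nat.strong_induction_on with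
  | _ n ih =>
  intro G _ _ hn hsol h0 Q ⟨e⟩
  by_contra hQV
  have hl := Cfsg.Agent.Lib.Helper63.exists_plengthLE_of_isPSolvable hsol
  have hC := Cfsg.Agent.Lib.Helper63.centralizer_pCore_le h0 hl
  have hSL : SL p ↥(Q : Subgroup G) := hP₀.of_equiv e
  have hVQ : pCore p G ≤ (Q : Subgroup G) := Cfsg.Agent.Lib.Helper63.pCore_le_sylow' p Q
  set V := pCore p G with hV
  haveI hVn : V.Normal := inferInstance
  have hVp : IsPGroup p V := Cfsg.Agent.Lib.Helper63.pCore_isPGroup' p G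
  have hcl : ∀ x ∈ (Q : Subgroup G), ∀ y ∈ (Q : Subgroup G), ∀ w ∈ (Q : Subgroup G),
      ⁅x, y⁆ * w = w * ⁅x, y⁆ := fun x hx y hy w hw =>
    congrArg Subtype.val (hSL.cl2 ⟨x, hx⟩ ⟨y, hy⟩ ⟨w, hw⟩)
  have hpw : ∀ x ∈ (Q : Subgroup G), ∀ w ∈ (Q : Subgroup G), x ^ p * w = w * x ^ p :=
    fun x hx w hw => congrArg Subtype.val (hSL.powp ⟨x, hx⟩ ⟨w, hw⟩)
  have hZV : ∀ z ∈ (Q : Subgroup G), (∀ w ∈ (Q : Subgroup G), z * w = w * z) → z ∈ V := by
    intro z _ hzc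
    apply hC
    rw [Subgroup.mem_centralizer_iff]
    intro v hv
    exact (hzc v (hVQ hv)).symm
  have hM1 : ∀ H : Subgroup G, H ≠ ⊤ → (Q : Subgroup G) ≤ H → ∀ h ∈ H,
      ∀ x ∈ (Q : Subgroup G), h * x * h⁻¹ ∈ (Q : Subgroup G) := by
    intro H hH hQH
    have hcardH : Nat.card H < n := by
      rw [← hn]
      exact lt_of_le_of_ne (Subgroup.card_le_card_group H)
        (fun h => hH ((Subgroup.card_eq_iff_eq_top H).1 h))
    have hsolH : IsPSolvable p H := Cfsg.Agent.Lib.Helper69.isPSolvable_subgroup p hsol H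
    have h0H : pPrimeCore p H = ⊥ := by
      haveI hKc' : (pPrimeCore p H).Characteristic :=
        Cfsg.Agent.Lib.Helper63.pPrimeCore_characteristic' p H
      have hKn : (pPrimeCore p H).Normal := inferInstance
      have hKc : (Nat.card (pPrimeCore p H)).Coprime p :=
        Cfsg.Agent.Lib.Helper63.card_pPrimeCore_coprime' p H
      rw [eq_bot_iff]
      intro k hk
      rw [Subgroup.mem_bot]
      have hpp : ∀ g : H, g ∈ pPrimeCore p H → (g : G) ∈ V → g = 1 := by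
        intro g hg hgV
        obtain ⟨m, hm, hgm⟩ := Cfsg.Agent.Lib.Helper63.exists_coprime_pow_eq_one _ hKc hg
        obtain ⟨j, hj⟩ := hVp ⟨_, hgV⟩
        have hj' : (g : G) ^ p ^ j = 1 := congrArg Subtype.val hj
        have hgm' : (g : G) ^ m = 1 := by rw [← Subgroup.coe_pow, hgm]; rfl
        have h7 := pow_gcd_eq_one.2 ⟨hgm', hj'⟩
        rw [Nat.Coprime.gcd_eq_one (Nat.Coprime.pow_right j hm), pow_one] at h7
        exact Subtype.ext h7
      have hkC : (k : G) ∈ Subgroup.centralizer (V : Set G) := by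
        rw [Subgroup.mem_centralizer_iff]
        intro v hv
        have hvH : v ∈ H := hQH (hVQ hv)
        have h1 : k * ⟨v, hvH⟩ * k⁻¹ * (⟨v, hvH⟩ : H)⁻¹ ∈ pPrimeCore p H := by
          have h2 := hKn.conj_mem k⁻¹ ((pPrimeCore p H).inv_mem hk) ⟨v, hvH⟩
          have h3 : k * ⟨v, hvH⟩ * k⁻¹ * (⟨v, hvH⟩ : H)⁻¹ =
              k * (⟨v, hvH⟩ * k⁻¹ * (⟨v, hvH⟩ : H)⁻¹) := by group
          rw [h3]
          exact (pPrimeCore p H).mul_mem hk h2
        have h4 : ((k * ⟨v, hvH⟩ * k⁻¹ * (⟨v, hvH⟩ : H)⁻¹ : H) : G) ∈ V := by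
          show (k : G) * v * (k : G)⁻¹ * v⁻¹ ∈ V
          exact V.mul_mem (hVn.conj_mem v hv k) (V.inv_mem hv)
        have h5 := congrArg Subtype.val (hpp _ h1 h4)
        have h6 : (k : G) * v * (k : G)⁻¹ * v⁻¹ = 1 := h5
        calc v * (k : G) = ((k : G) * v * (k : G)⁻¹ * v⁻¹)⁻¹ * ((k : G) * v) := by group
          _ = (k : G) * v := by rw [h6, inv_one, one_mul]
      exact hpp k hk (hC hkC)
    have key := ih (Nat.card H) hcardH ↥H rfl hsolH h0H (Q.subtype hQH)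
      ⟨(Subgroup.subgroupOfEquivOfLe hQH).trans e⟩
    have heq : ((Q.subtype hQH : Sylow p H) : Subgroup H) = pCore p H :=
      le_antisymm key (Cfsg.Agent.Lib.Helper63.pCore_le_sylow' p _)
    have hnorm : ((Q : Subgroup G).subgroupOf H).Normal := by
      rw [← Sylow.coe_subtype Q hQH, heq]
      infer_instance
    intro h hh x hx
    have h8 := hnorm.conj_mem ⟨x, hQH hx⟩ (Subgroup.mem_subgroupOf.2 hx) ⟨h, hh⟩
    exact Subgroup.mem_subgroupOf.1 h8
  have hcard := card_map_eq_p hsol (Q : Subgroup G) Q.isPGroup' hZV hcl hpw hM1 hQV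
  exact structure_false hp23 hC (Q : Subgroup G) Q.isPGroup' hVQ hSL hcard hQV

end Cfsg.Agent.Lib.Helper22.PL1
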