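import Mathlib
import Cfsg.Prelude.Def_SolvableStructure
import Cfsg.Agent.Lib.Helper97.SchmidtStruct
import Cfsg.Agent.Lib.Helper22.PL1.SchmidtAut

set_option autoImplicit false

namespace Cfsg.Agent.Lib.Helper22.PL1

open scoped commutatorElement Pointwise

universe u

variable {X : Type u} [Group X] [Finite X]

theorem nilpotent_of_central_gen (S : Subgroup X) (hS : Group.IsNilpotent S) (c : X)
    (hsup : S ⊔ Subgroup.zpowers c = ⊤) (hc : ∀ s ∈ S, c * s = s * c) : Group.IsNilpotent X := by
  have hcz : c ∈ Subgroup.center X := by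
    rw [Subgroup.mem_center_iff]
    have h1 : (⊤ : Subgroup X) ≤ Subgroup.centralizer ({c} : Set X) := by
      rw [← hsup]
      apply sup_le
      · intro s hs
        rw [Subgroup.mem_centralizer_iff]
        intro h hh
        rw [Set.mem_singleton_iff] at hh
        subst hh
        exact hc s hs
      · rw [Subgroup.zpowers_le, Subgroup.mem_centralizer_iff]
        intro h hh
        rw [Set.mem_singleton_iff] at hh
        subst hh
        rfl
    intro g
    have hg := h1 (Subgroup.mem_top g)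
    rw [Subgroup.mem_centralizer_iff] at hg
    exact (hg c rfl).symm
  have hsurj : Function.Surjective ((QuotientGroup.mk' (Subgroup.center X)).comp S.subtype) := by
    have h1 : S.map (QuotientGroup.mk' (Subgroup.center X)) = ⊤ := by
      have h2 := congrArg (Subgroup.map (QuotientGroup.mk' (Subgroup.center X))) hsup
      rw [Subgroup.map_sup, MonoidHom.map_zpowers,
        Subgroup.map_top_of_surjective _ (QuotientGroup.mk'_surjective _)] at h2
      have h3 : (QuotientGroup.mk' (Subgroup.center X)) c = 1 := (QuotientGroup.eq_one_iff c).2 hcz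
      rw [h3, Subgroup.zpowers_one_eq_bot, sup_bot_eq] at h2
      exact h2
    intro y
    have h4 : y ∈ S.map (QuotientGroup.mk' (Subgroup.center X)) := h1 ▸ Subgroup.mem_top y
    obtain ⟨s, hs, rfl⟩ := h4
    exact ⟨⟨s, hs⟩, rfl⟩
  haveI : Group.IsNilpotent (X ⧸ Subgroup.center X) :=
    Group.nilpotent_of_surjective ((QuotientGroup.mk' (Subgroup.center X)).comp S.subtype) hsurj
  exact Subgroup.isNilpotent_of_ker_le_center (QuotientGroup.mk' (Subgroup.center X))
    (by rw [QuotientGroup.ker_mk'])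

theorem conj_iter (P : Subgroup X) [P.Normal] (c : X) (n : ℕ) (y : P) :
    (((MulAut.conjNormal c : P ≃* P)^[n] y : P) : X) = c ^ n * y * (c ^ n)⁻¹ := by
  induction n with
  | zero => simp
  | succ n ih =>
    rw [Function.iterate_succ_apply', MulAut.conjNormal_apply, ih, pow_succ']
    group

/-- The normal Sylow subgroup of a minimal non-nilpotent group has the properties `SL`. -/
theorem schmidt_sylow_sl (p : ℕ) [Fact p.Prime] (hX : Cfsg.IsMinimalNonNilpotent X)
    (P : Sylow p X) (hPn : (P : Subgroup X).Normal) (hP1 : (P : Subgroup X) ≠ ⊥) :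
    SL p ↥(P : Subgroup X) := by
  obtain ⟨hnn, hprop⟩ := hX
  obtain ⟨p', q', hp', hq', hpq', P', Q', hcyc, hQn, hsup⟩ :=
    Cfsg.Agent.Lib.Helper97.schmidt_structure hnn hprop
  haveI := Fact.mk hp'
  haveI := Fact.mk hq'
  have hp : p.Prime := Fact.out
  obtain ⟨⟨x, hxP⟩, hx1'⟩ := (Subgroup.ne_bot_iff_exists_ne_one).1 hP1
  have hx1 : x ≠ 1 := fun h => hx1' (Subtype.ext h)
  obtain ⟨⟨c, hcP'⟩, hgen⟩ := hcyc.exists_generator
  have hzc : Subgroup.zpowers c = (P' : Subgroup X) := by
    apply le_antisymm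
    · rw [Subgroup.zpowers_le]; exact hcP'
    · intro y hy
      obtain ⟨i, hi⟩ := Subgroup.mem_zpowers_iff.1 (hgen ⟨y, hy⟩)
      refine Subgroup.mem_zpowers_iff.2 ⟨i, ?_⟩
      have h1 := congrArg Subtype.val hi
      rw [Subgroup.coe_zpow] at h1
      exact h1
  have hpq : p = q' := by
    by_contra hne
    by_cases hpp : p = p'
    · subst hpp
      have hPP : P' = P := by
        obtain ⟨g, hg⟩ := MulAction.exists_smul_eq X P P'
        rw [← hg]
        haveI := hPn
        exact Sylow.smul_eq_of_normal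
      apply hnn
      apply nilpotent_of_central_gen (Q' : Subgroup X) Q'.isPGroup'.isNilpotent c
        (by rw [hzc, sup_comm]; exact hsup)
      intro s hs
      have hd : Disjoint (P : Subgroup X) (Q' : Subgroup X) :=
        IsPGroup.disjoint_of_ne p q' hne _ _ P.isPGroup' Q'.isPGroup'
      exact (Subgroup.commute_of_normal_of_disjoint _ _ hPn hQn hd c s (hPP ▸ hcP') hs).eq
    · apply hx1
      have hmap : (P' : Subgroup X).map (QuotientGroup.mk' (Q' : Subgroup X)) = ⊤ := by
        have h2 := congrArg (Subgroup.map (QuotientGroup.mk' (Q' : Subgroup X))) hsup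
        rw [Subgroup.map_sup, QuotientGroup.map_mk'_self, sup_bot_eq,
          Subgroup.map_top_of_surjective _ (QuotientGroup.mk'_surjective _)] at h2
        exact h2
      have hxQ : x ∈ (Q' : Subgroup X) := by
        rw [← QuotientGroup.eq_one_iff]
        have h1 : (QuotientGroup.mk' (Q' : Subgroup X)) x ∈
            (P' : Subgroup X).map (QuotientGroup.mk' (Q' : Subgroup X)) :=
          hmap ▸ Subgroup.mem_top _
        have hdisj := IsPGroup.disjoint_of_ne p p' hpp
          ((P : Subgroup X).map (QuotientGroup.mk' (Q' : Subgroup X)))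
          ((P' : Subgroup X).map (QuotientGroup.mk' (Q' : Subgroup X)))
          (P.isPGroup'.map _) (P'.isPGroup'.map _)
        exact Subgroup.disjoint_def.1 hdisj ⟨x, hxP, rfl⟩ h1
      have hdisj := IsPGroup.disjoint_of_ne p q' hne _ _ P.isPGroup' Q'.isPGroup'
      exact Subgroup.disjoint_def.1 hdisj hxP hxQ
  subst hpq
  have hPQ : Q' = P := by
    obtain ⟨g, hg⟩ := MulAction.exists_smul_eq X P Q'
    rw [← hg]
    haveI := hPn
    exact Sylow.smul_eq_of_normal
  subst hPQ
  -- now `Q'` is the normal Sylow `p`-subgroup and `P' = ⟨c⟩` is a Sylow `p'`-subgroup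
  have hne : p' ≠ p := hpq'
  haveI := hQn
  have hdisj : Disjoint (P' : Subgroup X) (Q' : Subgroup X) :=
    IsPGroup.disjoint_of_ne p' p hne _ _ P'.isPGroup' Q'.isPGroup'
  have hordP : ∀ y ∈ (Q' : Subgroup X), ∃ k, orderOf y = p ^ k := by
    intro y hy
    obtain ⟨k, hk⟩ := (IsPGroup.iff_orderOf.1 Q'.isPGroup') ⟨y, hy⟩
    exact ⟨k, by rw [← hk]; exact (Subgroup.orderOf_mk y hy).symm⟩
  have hordC : ∀ y ∈ (P' : Subgroup X), ∃ k, orderOf y = p' ^ k := by
    intro y hy
    obtain ⟨k, hk⟩ := (IsPGroup.iff_orderOf.1 P'.isPGroup') ⟨y, hy⟩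
    exact ⟨k, by rw [← hk]; exact (Subgroup.orderOf_mk y hy).symm⟩
  let γ : (Q' : Subgroup X) ≃* (Q' : Subgroup X) := MulAut.conjNormal c
  have hγ : ∀ y : (Q' : Subgroup X), ((γ y : (Q' : Subgroup X)) : X) = c * y * c⁻¹ :=
    fun y => MulAut.conjNormal_apply c y
  -- the automorphism is not trivial
  have hγ1 : ∃ y, γ y ≠ y := by
    by_contra hcon
    push Not at hcon
    apply hnn
    apply nilpotent_of_central_gen (Q' : Subgroup X) Q'.isPGroup'.isNilpotent c
      (by rw [hzc, sup_comm]; exact hsup)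
    intro s hs
    have h1 := congrArg Subtype.val (hcon ⟨s, hs⟩)
    rw [hγ] at h1
    calc c * s = c * s * c⁻¹ * c := by group
      _ = s * c := by rw [h1]
  -- its `p'`-th power is trivial
  have hγq : ∀ y, γ^[p'] y = y := by
    intro y
    apply Subtype.ext
    rw [conj_iter]
    have hK : (Q' : Subgroup X) ⊔ Subgroup.zpowers (c ^ p') ≠ ⊤ := by
      intro hK
      have h2 := congrArg (Subgroup.map (QuotientGroup.mk' (Q' : Subgroup X))) hK
      rw [Subgroup.map_sup, QuotientGroup.map_mk'_self, bot_sup_eq, MonoidHom.map_zpowers,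
        Subgroup.map_top_of_surjective _ (QuotientGroup.mk'_surjective _)] at h2
      have h3 : (QuotientGroup.mk' (Q' : Subgroup X)) c ∈
          Subgroup.zpowers ((QuotientGroup.mk' (Q' : Subgroup X)) (c ^ p')) :=
        h2 ▸ Subgroup.mem_top _
      obtain ⟨j, hj⟩ := Subgroup.mem_zpowers_iff.1 h3
      set d := (QuotientGroup.mk' (Q' : Subgroup X)) c with hd
      rw [map_pow] at hj
      have hd1 : d = 1 := by
        by_contra hd1
        obtain ⟨k, hk⟩ := hordC c hcP'
        have h4 : d ^ p' ^ k = 1 := by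
          rw [hd, ← map_pow, ← hk, pow_orderOf_eq_one, map_one]
        have h5 : orderOf d ∣ p' ^ k := orderOf_dvd_of_pow_eq_one h4
        obtain ⟨m, -, hm⟩ := (Nat.dvd_prime_pow hp').1 h5
        have hm0 : m ≠ 0 := by
          intro h0
          rw [h0, pow_zero] at hm
          exact hd1 (orderOf_eq_one_iff.1 hm)
        have h6 : (p' : ℤ) ∣ (orderOf d : ℤ) := by
          rw [hm]
          exact_mod_cast dvd_pow_self p' hm0
        have h7 : d ^ ((p' : ℤ) * j - 1) = 1 := by
          rw [zpow_sub_one, zpow_mul, zpow_natCast, hj, mul_inv_cancel]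
        have h8 : (orderOf d : ℤ) ∣ (p' : ℤ) * j - 1 := orderOf_dvd_iff_zpow_eq_one.2 h7
        have h9 : (p' : ℤ) ∣ (p' : ℤ) * j - 1 := dvd_trans h6 h8
        have h10 : (p' : ℤ) ∣ 1 := by
          have := dvd_sub (dvd_mul_right (p' : ℤ) j) h9
          simpa using this
        have h11 : p' ∣ 1 := by exact_mod_cast h10
        exact hp'.one_lt.ne' (Nat.dvd_one.1 h11)
      have hcQ : c ∈ (Q' : Subgroup X) := (QuotientGroup.eq_one_iff c).1 hd1
      have hc1 : c = 1 := Subgroup.disjoint_def.1 hdisj hcP' hcQ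
      have hP'bot : (P' : Subgroup X) = ⊥ := by
        rw [← hzc, hc1, Subgroup.zpowers_one_eq_bot]
      rw [hP'bot, bot_sup_eq] at hsup
      apply hnn
      have hpg : IsPGroup p X := by
        intro g
        obtain ⟨k, hk⟩ := Q'.isPGroup' ⟨g, hsup ▸ Subgroup.mem_top g⟩
        exact ⟨k, congrArg Subtype.val hk⟩
      exact hpg.isNilpotent
    have hKn := hprop _ hK
    have hcq : c ^ p' ∈ (P' : Subgroup X) := Subgroup.pow_mem _ hcP' _
    have h1 := Cfsg.Agent.Lib.Helper97.commute_of_nilpotent_coprime hKn (Ne.symm hne)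
      ((le_sup_left : (Q' : Subgroup X) ≤ _) y.2)
      ((le_sup_right : Subgroup.zpowers (c ^ p') ≤ _) (Subgroup.mem_zpowers _))
      (hordP y y.2) (hordC _ hcq)
    rw [← h1, mul_inv_cancel_right]
  -- proper invariant subgroups are fixed pointwise
  have hA3 : ∀ B : Subgroup (Q' : Subgroup X), (∀ b ∈ B, γ b ∈ B) → B ≠ ⊤ →
      ∀ b ∈ B, γ b = b := by
    intro B hB hBt
    have hiter : ∀ (n : ℕ), ∀ b ∈ B, γ^[n] b ∈ B := by
      intro n
      induction n with
      | zero => intro b hb; simpa using hb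
      | succ n ih =>
        intro b hb
        rw [Function.iterate_succ_apply']
        exact hB _ (ih b hb)
    have hsymm : ∀ b ∈ B, γ.symm b ∈ B := by
      intro b hb
      have h1 : γ.symm b = γ^[p' - 1] b := by
        apply γ.injective
        rw [MulEquiv.apply_symm_apply, ← Function.iterate_succ_apply' (γ : _ → _)]
        have h2 : (p' - 1).succ = p' := Nat.succ_pred_eq_of_pos hp'.pos
        rw [h2, hγq]
      rw [h1]
      exact hiter _ b hb
    have hLE : Subgroup.zpowers c ≤ Subgroup.normalizer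
        ((B.map (Q' : Subgroup X).subtype : Subgroup X) : Set X) := by
      rw [Subgroup.zpowers_le, Subgroup.mem_normalizer_iff]
      intro h
      constructor
      · rintro ⟨b, hb, rfl⟩
        exact ⟨γ b, hB b hb, hγ b⟩
      · rintro ⟨b, hb, hbh⟩
        refine ⟨γ.symm b, hsymm b hb, ?_⟩
        have h1 := hγ (γ.symm b)
        rw [MulEquiv.apply_symm_apply] at h1
        have h2 : (Q' : Subgroup X).subtype b = (b : X) := rfl
        rw [h2, h1] at hbh
        have h3 : ((Q' : Subgroup X).subtype (γ.symm b) : X) = ((γ.symm b : (Q' : Subgroup X)) : X) := rfl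
        rw [h3]
        have h4 : (γ.symm b : X) = c⁻¹ * (c * (γ.symm b : X) * c⁻¹) * c := by group
        rw [h4, hbh]
        group
    have hK : Subgroup.zpowers c ⊔ B.map (Q' : Subgroup X).subtype ≠ ⊤ := by
      intro hK
      apply hBt
      rw [eq_top_iff]
      intro y _
      have h1 : (y : X) ∈ ((Subgroup.zpowers c ⊔ B.map (Q' : Subgroup X).subtype : Subgroup X) : Set X) := by
        rw [hK]; exact Subgroup.mem_top _
      rw [Subgroup.coe_mul_of_left_le_normalizer_right _ _ hLE] at h1
      obtain ⟨d, hd, b', hb', hdb⟩ := Set.mem_mul.1 h1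
      have hb'Q : b' ∈ (Q' : Subgroup X) := Subgroup.map_subtype_le _ hb'
      have hdQ : d ∈ (Q' : Subgroup X) := by
        have h2 : d = (y : X) * b'⁻¹ := by rw [← hdb]; group
        rw [h2]
        exact Subgroup.mul_mem _ y.2 (Subgroup.inv_mem _ hb'Q)
      have hd1 : d = 1 := Subgroup.disjoint_def.1 hdisj (hzc ▸ hd) hdQ
      rw [hd1, one_mul] at hdb
      obtain ⟨b, hb, hbb⟩ := hb'
      have h3 : b = y := Subtype.ext (by rw [← hdb]; exact hbb)
      rw [← h3]
      exact hb
    have hKn := hprop _ hK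
    intro b hb
    apply Subtype.ext
    rw [hγ]
    have h1 := Cfsg.Agent.Lib.Helper97.commute_of_nilpotent_coprime hKn (Ne.symm hne)
      ((le_sup_right : B.map (Q' : Subgroup X).subtype ≤ _) ⟨b, hb, rfl⟩)
      ((le_sup_left : Subgroup.zpowers c ≤ _) (Subgroup.mem_zpowers c))
      (hordP b b.2) (hordC c hcP')
    have h2 : ((Q' : Subgroup X).subtype b : X) = (b : X) := rfl
    rw [h2] at h1
    rw [← h1, mul_inv_cancel_right]
  exact sl_of_aut hp hp' hne Q'.isPGroup' γ hγq hγ1 hA3

end Cfsg.Agent.Lib.Helper22.PL1
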